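import Mathlib
import Cfsg.Agent.EqLemmas

/-!
Recognising a finite presented group by an order bound, and changing generators.
-/

set_option autoImplicit false

namespace Cfsg.Agent.AltPresent


set_option maxHeartbeats 400000

variable {T : Type*} [Group T] [Finite T] {m : ℕ}

theorem lift_comp_apply {α : Type*} {H K : Type*} [Group H] [Group K] (h : H →* K) (w : α → H)
    (x : FreeGroup α) : FreeGroup.lift (fun i => h (w i)) x = h (FreeGroup.lift w x) := by
  have : FreeGroup.lift (fun i => h (w i)) = h.comp (FreeGroup.lift w) :=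
    FreeGroup.ext_hom _ _ fun i => by simp
  exact DFunLike.congr_fun this x

/-- A presented group which is small enough and maps onto `T` is `T`. -/
theorem exists_iso_of_card (rels : Finset (FreeGroup (Fin m))) (ev : Fin m → T)
    (hrel : ∀ r ∈ rels, FreeGroup.lift ev r = 1) (hgen : Subgroup.closure (Set.range ev) = ⊤)
    (hfin : Finite (PresentedGroup (↑rels : Set (FreeGroup (Fin m)))))
    (hle : Nat.card (PresentedGroup (↑rels : Set (FreeGroup (Fin m)))) ≤ Nat.card T) :
    ∃ e : PresentedGroup (↑rels : Set (FreeGroup (Fin m))) ≃* T, ∀ i, e (PresentedGroup.of i) = ev i := by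
  let f := PresentedGroup.toGroup (f := ev) (rels := (↑rels : Set (FreeGroup (Fin m)))) hrel
  have hs : Function.Surjective f := by
    rw [← MonoidHom.range_eq_top, eq_top_iff, ← hgen, Subgroup.closure_le]
    rintro _ ⟨i, rfl⟩
    exact ⟨PresentedGroup.of i, PresentedGroup.toGroup.of hrel⟩
  exact ⟨MulEquiv.ofBijective f (hs.bijective_of_nat_card_le hle), fun i => PresentedGroup.toGroup.of hrel⟩

/-- Tietze: substitute words in the new generators, and record each new generator. The relator for a
new generator is needed only when it is not one of the old ones. -/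
theorem exists_rels_of_gens {l : ℕ} (rels : Finset (FreeGroup (Fin m)))
    (e : PresentedGroup (↑rels : Set (FreeGroup (Fin m))) ≃* T) (f : Fin l → T)
    (hf : Subgroup.closure (Set.range f) = ⊤) (σ : Fin l → Option (Fin m))
    (hσ : ∀ j i, σ j = some i → f j = e (PresentedGroup.of i))
    (hinj : ∀ j j' i, σ j = some i → σ j' = some i → j = j') :
    ∃ rels' : Finset (FreeGroup (Fin l)),
      rels'.card ≤ rels.card + (Finset.univ.filter fun j => σ j = none).card ∧
        ∃ e' : PresentedGroup (↑rels' : Set (FreeGroup (Fin l))) ≃* T, ∀ j, e' (PresentedGroup.of j) = f j := by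
  classical
  have hw : ∀ i : Fin m, ∃ w : FreeGroup (Fin l), FreeGroup.lift f w = e (PresentedGroup.of i) ∧
      ∀ j, σ j = some i → w = FreeGroup.of j := by
    intro i
    by_cases h : ∃ j, σ j = some i
    · obtain ⟨j, hj⟩ := h
      exact ⟨FreeGroup.of j, by simp [hσ j i hj], fun j' hj' => by rw [hinj j j' i hj hj']⟩
    · have hr : e (PresentedGroup.of i) ∈ (FreeGroup.lift f).range := by
        rw [FreeGroup.range_lift_eq_closure, hf]; trivial
      obtain ⟨w, hw⟩ := hr
      exact ⟨w, hw, fun j hj => absurd ⟨j, hj⟩ h⟩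
  choose w hw hwσ using hw
  have hv : ∀ j : Fin l, ∃ v : FreeGroup (Fin m), e (PresentedGroup.mk _ v) = f j ∧
      ∀ i, σ j = some i → v = FreeGroup.of i := by
    intro j
    cases hj : σ j with
    | some i =>
      refine ⟨FreeGroup.of i, ?_, fun i' h => by rw [Option.some.inj h]⟩
      rw [hσ j i hj]; rfl
    | none =>
      obtain ⟨v, hv⟩ := PresentedGroup.mk_surjective (↑rels : Set (FreeGroup (Fin m))) (e.symm (f j))
      exact ⟨v, by rw [hv, e.apply_symm_apply], fun i h => (Option.some_ne_none i h.symm).elim⟩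
  choose v hv hvσ using hv
  let φ : FreeGroup (Fin m) →* FreeGroup (Fin l) := FreeGroup.lift w
  obtain ⟨rels', hR⟩ : ∃ R : Finset (FreeGroup (Fin l)), R =
      rels.image φ ∪ (Finset.univ.filter fun j => σ j = none).image fun j => (FreeGroup.of j)⁻¹ * φ (v j) :=
    ⟨_, rfl⟩
  refine ⟨rels', hR ▸ (Finset.card_union_le _ _).trans (add_le_add Finset.card_image_le Finset.card_image_le), ?_⟩
  have hφ : ∀ x, FreeGroup.lift f (φ x) = e (PresentedGroup.mk _ x) := by
    intro x
    have : (FreeGroup.lift f).comp φ = e.toMonoidHom.comp (PresentedGroup.mk _) :=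
      FreeGroup.ext_hom _ _ fun i => by
        show FreeGroup.lift f (φ (FreeGroup.of i)) = e (PresentedGroup.mk _ (FreeGroup.of i))
        rw [FreeGroup.lift_apply_of, hw]; rfl
    exact DFunLike.congr_fun this x
  have hrel : ∀ r ∈ rels', FreeGroup.lift f r = 1 := by
    intro r hr
    rw [hR] at hr
    rcases Finset.mem_union.mp hr with hr | hr
    · obtain ⟨r₀, hr₀, rfl⟩ := Finset.mem_image.mp hr
      rw [hφ, PresentedGroup.one_of_mem (Finset.mem_coe.mpr hr₀), map_one]
    · obtain ⟨j, -, rfl⟩ := Finset.mem_image.mp hr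
      rw [map_mul, map_inv, hφ, hv, FreeGroup.lift_apply_of, inv_mul_cancel]
  let P' := PresentedGroup (↑rels' : Set (FreeGroup (Fin l)))
  let back : PresentedGroup (↑rels : Set (FreeGroup (Fin m))) →* P' :=
    PresentedGroup.toGroup (f := fun i => (PresentedGroup.mk (↑rels' : Set (FreeGroup (Fin l))) (w i) : P'))
      fun r hr => by
      rw [lift_comp_apply]
      exact PresentedGroup.one_of_mem (Finset.mem_coe.mpr (hR ▸ Finset.mem_union_left _ (Finset.mem_image_of_mem _ hr)))
  have hback : ∀ x, back (PresentedGroup.mk (↑rels : Set (FreeGroup (Fin m))) x) =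
      PresentedGroup.mk (↑rels' : Set (FreeGroup (Fin l))) (φ x) := fun x =>
    lift_comp_apply (PresentedGroup.mk (↑rels' : Set (FreeGroup (Fin l)))) w x
  have hsurj : Function.Surjective back := by
    rw [← MonoidHom.range_eq_top, eq_top_iff, ← PresentedGroup.closure_range_of, Subgroup.closure_le]
    rintro _ ⟨j, rfl⟩
    refine ⟨PresentedGroup.mk _ (v j), ?_⟩
    rw [hback]
    cases hj : σ j with
    | some i =>
      rw [hvσ j i hj]
      simp only [φ, FreeGroup.lift_apply_of]
      rw [hwσ i j hj]; rfl
    | none =>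
      exact (PresentedGroup.mk_eq_mk_of_inv_mul_mem (Finset.mem_coe.mpr
        (hR ▸ Finset.mem_union_right _ (Finset.mem_image.mpr ⟨j, by simp [hj], rfl⟩)))).symm
  haveI : Finite (PresentedGroup (↑rels : Set (FreeGroup (Fin m)))) := Finite.of_equiv T e.symm.toEquiv
  exact exists_iso_of_card rels' f hrel hf (Finite.of_surjective _ hsurj)
    ((Nat.card_le_card_of_surjective _ hsurj).trans (Nat.card_congr e.toEquiv).le)

end Cfsg.Agent.AltPresent
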