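import Cfsg.Agent.Lib.AltPresent.Carmichael
import Cfsg.Agent.Lib.AltPresent.Tietze

/-!
Two-generator presentations of the symmetric and alternating groups of degree at most 4.
-/

set_option autoImplicit false

namespace Cfsg.Agent.AltPresent

open Equiv Equiv.Perm

variable {G : Type*} [Group G]

/-- A group generated by an involution and elements of a finite subgroup which it normalises. -/
theorem card_le_of_involution (a : G) (Y : Set G) (K : Subgroup G) (hfin : (K : Set G).Finite)
    (hgen : Subgroup.closure (insert a Y) = ⊤) (hY : Y ⊆ K) (ha : a * a = 1)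
    (hn : ∀ y ∈ Y, a * y * a ∈ K) : Finite G ∧ Nat.card G ≤ 2 * Nat.card K := by
  set U : Set G := (K : Set G) ∪ (fun h => h * a) '' (K : Set G) with hU
  have hUfin : U.Finite := hfin.union (hfin.image _)
  have hai : a⁻¹ = a := inv_eq_of_mul_eq_one_right ha
  have hn' : ∀ y ∈ Y, a * y⁻¹ * a ∈ K := fun y hy => by
    rw [show a * y⁻¹ * a = (a * y * a)⁻¹ by rw [mul_inv_rev, mul_inv_rev, hai, mul_assoc]]
    exact inv_mem (hn y hy)
  have step : ∀ u ∈ U, ∀ b, (b = a ∨ (b ∈ K ∧ a * b * a ∈ K)) → u * b ∈ U := by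
    rintro u (hu | ⟨h, hh, rfl⟩) b (rfl | ⟨hb, hab⟩)
    · exact Or.inr ⟨u, hu, rfl⟩
    · exact Or.inl (mul_mem hu hb)
    · exact Or.inl (by rw [mul_assoc, ha, mul_one]; exact hh)
    · refine Or.inr ⟨h * (a * b * a), mul_mem hh hab, ?_⟩
      show h * (a * b * a) * a = h * a * b
      rw [show h * (a * b * a) * a = h * a * b * (a * a) by group, ha, mul_one]
  have hall : ∀ g : G, g ∈ U := by
    intro g
    have hg : g ∈ Subgroup.closure (insert a Y) := by rw [hgen]; trivial
    induction hg using Subgroup.closure_induction_right with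
    | one => exact Or.inl (one_mem K)
    | mul_right x _ y hy hx =>
      rcases hy with rfl | hy
      · exact step x hx _ (Or.inl rfl)
      · exact step x hx _ (Or.inr ⟨hY hy, hn y hy⟩)
    | mul_inv_cancel x _ y hy hx =>
      rcases hy with rfl | hy
      · exact step x hx _ (Or.inl hai)
      · exact step x hx _ (Or.inr ⟨inv_mem (hY hy), hn' y hy⟩)
  have hf : Finite G := Set.finite_univ_iff.mp (hUfin.subset fun g _ => hall g)
  refine ⟨hf, ?_⟩
  haveI : Finite G := hf
  calc Nat.card G = (Set.univ : Set G).ncard := (Set.ncard_univ G).symm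
    _ ≤ U.ncard := Set.ncard_le_ncard (fun g _ => hall g) hUfin
    _ ≤ (K : Set G).ncard + ((fun h => h * a) '' (K : Set G)).ncard := Set.ncard_union_le _ _
    _ ≤ (K : Set G).ncard + (K : Set G).ncard := Nat.add_le_add_left (Set.ncard_image_le hfin) _
    _ = 2 * Nat.card K := by rw [← Nat.card_coe_set_eq]; simp [two_mul]

/-- Products of length at most `n` in two elements. -/
def words {H : Type*} [Group H] [DecidableEq H] (a b : H) : ℕ → List H
  | 0 => [1]
  | n + 1 => ((words a b n) ++ ((words a b n).map (· * a)) ++ ((words a b n).map (· * b))).dedup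

theorem closure_eq_top_of_words {H : Type*} [Group H] [DecidableEq H] (a b : H) (n : ℕ)
    (h : ∀ x, x ∈ words a b n) : Subgroup.closure ({a, b} : Set H) = ⊤ := by
  have hw : ∀ m, ∀ x ∈ words a b m, x ∈ Subgroup.closure ({a, b} : Set H) := by
    intro m
    induction m with
    | zero => intro x hx; simp [words] at hx; rw [hx]; exact one_mem _
    | succ m ih =>
      intro x hx
      simp only [words, List.mem_dedup, List.mem_append, List.mem_map] at hx
      rcases hx with (hx | ⟨y, hy, rfl⟩) | ⟨y, hy, rfl⟩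
      · exact ih x hx
      · exact mul_mem (ih y hy) (Subgroup.subset_closure (by simp))
      · exact mul_mem (ih y hy) (Subgroup.subset_closure (by simp))
  exact eq_top_iff.mpr fun x _ => hw n x (h x)

theorem pair_range {H : Type*} (f : Fin 2 → H) : Set.range f = {f 0, f 1} := by
  ext x
  simp [Fin.exists_fin_two, eq_comm]

/-- A two-generator presentation with at most eight relations. -/
def HasPres (T : Type*) [Group T] : Prop :=
  ∃ rels : Finset (FreeGroup (Fin 2)), rels.card ≤ 8 ∧
    Nonempty (PresentedGroup (↑rels : Set (FreeGroup (Fin 2))) ≃* T)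

theorem HasPres.of_equiv {T T' : Type*} [Group T] [Group T'] (h : HasPres T) (e : T ≃* T') : HasPres T' := by
  obtain ⟨rels, hc, ⟨f⟩⟩ := h
  exact ⟨rels, hc, ⟨f.trans e⟩⟩

theorem hasPres_of_bound {T : Type*} [Group T] [Finite T] (L : List (FreeGroup (Fin 2))) (hL : L.length ≤ 8)
    (ev : Fin 2 → T) (hrel : ∀ r ∈ L, FreeGroup.lift ev r = 1)
    (hgen : Subgroup.closure ({ev 0, ev 1} : Set T) = ⊤)
    (hb : ∀ (x y : PresentedGroup {r : FreeGroup (Fin 2) | r ∈ L}),
      x = PresentedGroup.of 0 → y = PresentedGroup.of 1 → Subgroup.closure ({x, y} : Set _) = ⊤ →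
      (∀ r ∈ L, FreeGroup.lift ![x, y] r = 1) →
      Finite (PresentedGroup {r : FreeGroup (Fin 2) | r ∈ L}) ∧
        Nat.card (PresentedGroup {r : FreeGroup (Fin 2) | r ∈ L}) ≤ Nat.card T) :
    HasPres T := by
  classical
  have hset : ({r : FreeGroup (Fin 2) | r ∈ L} : Set (FreeGroup (Fin 2))) = ↑L.toFinset := by ext; simp
  obtain ⟨hfin, hle⟩ := hb _ _ rfl rfl
    (by rw [← pair_range, PresentedGroup.closure_range_of])
    (fun r hr => by
      have h : FreeGroup.lift ![PresentedGroup.of 0, PresentedGroup.of 1] =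
          PresentedGroup.mk {r : FreeGroup (Fin 2) | r ∈ L} :=
        FreeGroup.ext_hom _ _ fun i => by fin_cases i <;> simp <;> rfl
      rw [h]; exact PresentedGroup.one_of_mem hr)
  rw [hset] at hfin hle
  obtain ⟨e, -⟩ := exists_iso_of_card L.toFinset ev (fun r hr => hrel r (List.mem_toFinset.mp hr))
    (by rw [pair_range]; exact hgen) hfin hle
  exact ⟨L.toFinset, (List.toFinset_card_le L).trans hL, ⟨e⟩⟩

theorem hasPres_subsingleton (T : Type*) [Group T] [Subsingleton T] : HasPres T := by
  refine hasPres_of_bound [FreeGroup.of 0, FreeGroup.of 1] (by simp) (fun _ => 1) (fun r _ => Subsingleton.elim _ _)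
    (Subsingleton.elim _ _) fun x y _ _ hgen hr => ?_
  have h0 : x = 1 := by simpa using hr _ (List.mem_cons_self)
  have h1 : y = 1 := by
    have h := hr (FreeGroup.of 1) (by simp)
    simp only [map_mul, map_pow, FreeGroup.lift_apply_of, Matrix.cons_val_zero, Matrix.cons_val_one] at h
    exact h
  subst h0 h1
  have hall : ∀ g : PresentedGroup {r : FreeGroup (Fin 2) | r ∈ [FreeGroup.of (0 : Fin 2), FreeGroup.of 1]}, g = 1 := by
    intro g
    have hg : g ∈ Subgroup.closure ({1, 1} : Set _) := by rw [hgen]; trivial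
    simpa [Subgroup.closure_singleton_one] using hg
  haveI : Subsingleton (PresentedGroup {r : FreeGroup (Fin 2) | r ∈ [FreeGroup.of (0 : Fin 2), FreeGroup.of 1]}) :=
    ⟨fun a b => (hall a).trans (hall b).symm⟩
  exact ⟨inferInstance, by rw [Nat.card_of_subsingleton (1 : _), Nat.card_of_subsingleton (1 : T)]⟩

theorem zpowers_finite_card {x : G} {n : ℕ} (hn : 0 < n) (hx : x ^ n = 1) :
    (Subgroup.zpowers x : Set G).Finite ∧ Nat.card (Subgroup.zpowers x) ≤ n := by
  have hfo : IsOfFinOrder x := isOfFinOrder_iff_pow_eq_one.mpr ⟨n, hn, hx⟩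
  refine ⟨hfo.finite_zpowers, ?_⟩
  rw [Nat.card_zpowers]
  exact orderOf_le_of_pow_eq_one hn hx

theorem pair_sq {x y : G} (h : (x * y) ^ 2 = 1) (i j : Fin 2) (hij : i ≠ j) :
    (![x, y] i * ![x, y] j) ^ 2 = 1 := by
  fin_cases i <;> fin_cases j
  · exact absurd rfl hij
  · exact h
  · show (y * x) ^ 2 = 1
    rw [show y * x = x⁻¹ * (x * y) * x by group, show (x⁻¹ * (x * y) * x) ^ 2 = x⁻¹ * (x * y) ^ 2 * x from
      by simpa using (conj_pow (i := 2) (a := x⁻¹) (b := x * y)), h, mul_one, inv_mul_cancel]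
  · exact absurd rfl hij

open FreeGroup (of)

theorem hasPres_perm_two : HasPres (Perm (Fin 2)) := by
  refine hasPres_of_bound [of 0 * of 0, of 1] (by simp) ![swap 0 1, 1] (by simp <;> decide +kernel)
    (closure_eq_top_of_words _ _ 1 (by decide +kernel)) fun x y _ _ hgen hr => ?_
  have hx : x * x = 1 := by simpa using hr _ (List.mem_cons_self)
  have hy : y = 1 := by
    have h := hr (of 1) (by simp)
    simp only [map_mul, map_pow, FreeGroup.lift_apply_of, Matrix.cons_val_zero, Matrix.cons_val_one] at h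
    exact h
  subst hy
  obtain ⟨hf, hc⟩ := card_le_of_involution x {1} ⊥ (by simp) (by simpa using hgen) (by simp) hx
    (by simp [hx])
  exact ⟨hf, by rw [Subgroup.card_bot] at hc; simpa [Nat.card_eq_fintype_card, Fintype.card_perm] using hc⟩

theorem hasPres_alt_three : HasPres ↥(alternatingGroup (Fin 3)) := by
  refine hasPres_of_bound [of 0, of 1 ^ 3] (by simp) ![1, ⟨finRotate 3, Equiv.Perm.mem_alternatingGroup.mpr (by decide)⟩] (by simp <;> decide +kernel)
    (closure_eq_top_of_words _ _ 2 (by decide +kernel)) fun x y _ _ hgen hr => ?_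
  have hx : x = 1 := by simpa using hr _ (List.mem_cons_self)
  have hy : y ^ 3 = 1 := by
    have h := hr (of 1 ^ 3) (by simp)
    simp only [map_mul, map_pow, FreeGroup.lift_apply_of, Matrix.cons_val_zero, Matrix.cons_val_one] at h
    exact h
  subst hx
  obtain ⟨hf, hc⟩ := zpowers_finite_card (by norm_num) hy
  have htop : Subgroup.zpowers y = ⊤ := by
    rw [eq_top_iff, ← hgen, Subgroup.closure_le]
    rintro q (rfl | rfl)
    · exact one_mem _
    · exact Subgroup.mem_zpowers q
  rw [htop] at hf hc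
  rw [Subgroup.coe_top] at hf
  haveI := Set.finite_univ_iff.mp hf
  rw [Subgroup.card_top] at hc
  exact ⟨inferInstance, hc.trans (by rw [Nat.card_eq_fintype_card]; decide +kernel)⟩

theorem hasPres_perm_three : HasPres (Perm (Fin 3)) := by
  refine hasPres_of_bound [of 0 * of 0, of 1 ^ 3, of 0 * of 1 * of 0 * of 1] (by simp)
    ![swap 0 1, finRotate 3] (by simp <;> decide +kernel)
    (closure_eq_top_of_words _ _ 4 (by decide +kernel)) fun x y _ _ hgen hr => ?_
  have hx : x * x = 1 := by simpa using hr _ (List.mem_cons_self)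
  have hy : y ^ 3 = 1 := by
    have h := hr (of 1 ^ 3) (by simp)
    simp only [map_mul, map_pow, FreeGroup.lift_apply_of, Matrix.cons_val_zero, Matrix.cons_val_one] at h
    exact h
  have hxy : x * y * x * y = 1 := by
    have h := hr (of 0 * of 1 * of 0 * of 1) (by simp)
    simp only [map_mul, map_pow, FreeGroup.lift_apply_of, Matrix.cons_val_zero, Matrix.cons_val_one] at h
    exact h
  obtain ⟨hf, hc⟩ := zpowers_finite_card (by norm_num) hy
  obtain ⟨hf', hc'⟩ := card_le_of_involution x {y} (Subgroup.zpowers y) hf (by simpa using hgen)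
    (by simp) hx (by
      rintro q rfl
      rw [eq_inv_of_mul_eq_one_left hxy]
      exact inv_mem (Subgroup.mem_zpowers _))
  refine ⟨hf', ?_⟩
  rw [Nat.card_eq_fintype_card (α := Perm (Fin 3)), Fintype.card_perm, Fintype.card_fin]
  calc _ ≤ 2 * 3 := hc'.trans (Nat.mul_le_mul_left 2 hc)
    _ = Nat.factorial 3 := rfl

theorem hasPres_alt_four : HasPres ↥(alternatingGroup (Fin 4)) := by
  refine hasPres_of_bound [of 0 ^ 3, of 1 ^ 3, (of 0 * of 1) ^ 2] (by simp)
    ![⟨swap 0 2 * swap 0 1, Equiv.Perm.mem_alternatingGroup.mpr (by decide)⟩,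
      ⟨swap 0 3 * swap 0 1, Equiv.Perm.mem_alternatingGroup.mpr (by decide)⟩] (by simp <;> decide +kernel)
    (closure_eq_top_of_words _ _ 4 (by decide +kernel)) fun x y _ _ hgen hr => ?_
  have hx : x ^ 3 = 1 := by simpa using hr _ (List.mem_cons_self)
  have hy : y ^ 3 = 1 := by
    have h := hr (of 1 ^ 3) (by simp)
    simp only [map_mul, map_pow, FreeGroup.lift_apply_of, Matrix.cons_val_zero, Matrix.cons_val_one] at h
    exact h
  have hxy : (x * y) ^ 2 = 1 := by
    have h := hr ((of 0 * of 1) ^ 2) (by simp)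
    simp only [map_mul, map_pow, FreeGroup.lift_apply_of, Matrix.cons_val_zero, Matrix.cons_val_one] at h
    exact h
  obtain ⟨hf, hc⟩ := card_closure_le ![x, y] (fun i => by fin_cases i <;> assumption)
    (pair_sq hxy) Finset.univ
  rw [Finset.coe_univ, Set.image_univ, pair_range] at hf hc
  simp only [Matrix.cons_val_zero, Matrix.cons_val_one, hgen] at hf hc
  rw [Subgroup.coe_top] at hf
  haveI := Set.finite_univ_iff.mp hf
  refine ⟨inferInstance, ?_⟩
  rw [Subgroup.card_top] at hc
  simp only [Finset.card_univ, Fintype.card_fin] at hc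
  have h12 : 12 ≤ Nat.card ↥(alternatingGroup (Fin 4)) := by
    rw [Nat.card_eq_fintype_card]; decide +kernel
  rw [show Nat.factorial (2 + 2) = 24 from rfl] at hc
  omega

theorem hasPres_perm_four : HasPres (Perm (Fin 4)) := by
  refine hasPres_of_bound [of 0 * of 0, of 1 ^ 3, (of 1 * (of 0 * of 1 * of 0)) ^ 2] (by simp)
    ![swap 2 3, swap 0 2 * swap 0 1] (by simp <;> decide +kernel)
    (closure_eq_top_of_words _ _ 8 (by decide +kernel)) fun x y _ _ hgen hr => ?_
  have hx : x * x = 1 := by simpa using hr _ (List.mem_cons_self)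
  have hy : y ^ 3 = 1 := by
    have h := hr (of 1 ^ 3) (by simp)
    simp only [map_mul, map_pow, FreeGroup.lift_apply_of, Matrix.cons_val_zero, Matrix.cons_val_one] at h
    exact h
  have hxi : x⁻¹ = x := inv_eq_of_mul_eq_one_right hx
  set w := x * y * x with hw
  have hyw : (y * w) ^ 2 = 1 := by
    have h := hr ((of 1 * (of 0 * of 1 * of 0)) ^ 2) (by simp)
    simp only [map_mul, map_pow, FreeGroup.lift_apply_of, Matrix.cons_val_zero, Matrix.cons_val_one] at h
    exact h
  have hw3 : w ^ 3 = 1 := by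
    rw [hw, show x * y * x = x * y * x⁻¹ by rw [hxi], conj_pow, hy, mul_one, mul_inv_cancel]
  obtain ⟨hf, hc⟩ := card_closure_le ![y, w] (fun i => by fin_cases i <;> assumption)
    (pair_sq hyw) Finset.univ
  rw [Finset.coe_univ, Set.image_univ, pair_range] at hf hc
  simp only [Matrix.cons_val_zero, Matrix.cons_val_one, Finset.card_univ, Fintype.card_fin] at hf hc
  obtain ⟨hf', hc'⟩ := card_le_of_involution x {y} (Subgroup.closure {y, w}) hf (by simpa using hgen)
    (by rintro q rfl; exact Subgroup.subset_closure (by simp)) hx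
    (by rintro q rfl; exact Subgroup.subset_closure (by simp [hw]))
  refine ⟨hf', ?_⟩
  rw [Nat.card_eq_fintype_card (α := Perm (Fin 4)), Fintype.card_perm, Fintype.card_fin]
  exact hc'.trans (by simp [Nat.factorial] at hc ⊢; omega)

theorem hasPres_small {n : ℕ} (hn : n < 5) :
    HasPres (Perm (Fin n)) ∧ HasPres ↥(alternatingGroup (Fin n)) := by
  interval_cases n
  · exact ⟨hasPres_subsingleton _, hasPres_subsingleton _⟩
  · exact ⟨hasPres_subsingleton _, hasPres_subsingleton _⟩
  · haveI : Subsingleton ↥(alternatingGroup (Fin 2)) :=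
      ⟨fun a b => by revert a b; decide +kernel⟩
    exact ⟨hasPres_perm_two, hasPres_subsingleton _⟩
  · exact ⟨hasPres_perm_three, hasPres_alt_three⟩
  · exact ⟨hasPres_perm_four, hasPres_alt_four⟩

end Cfsg.Agent.AltPresent
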