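import Cfsg.Agent.Lib.AltPresent.Present
import Cfsg.Agent.Lib.AltPresent.Small

/-!
The presentations on `Fin n`.
-/

set_option autoImplicit false

namespace Cfsg.Agent.AltPresent

open Equiv Equiv.Perm

/-- Three generators, seven relations, the last two generating, for `S_n` and `A_n`, `n ≥ 5`. -/
def HasPresThree (T : Type*) [Group T] : Prop :=
  ∃ (rels : Finset (FreeGroup (Fin 3))), rels.card ≤ 7 ∧
    ∃ (e : PresentedGroup (↑rels : Set (FreeGroup (Fin 3))) ≃* T),
      Subgroup.closure ({e (PresentedGroup.of 1), e (PresentedGroup.of 2)} : Set T) = ⊤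

theorem HasPresThree.of_equiv {T T' : Type*} [Group T] [Group T'] (h : HasPresThree T) (f : T ≃* T') :
    HasPresThree T' := by
  obtain ⟨rels, hc, e, he⟩ := h
  refine ⟨rels, hc, e.trans f, ?_⟩
  have := congrArg (Subgroup.map f.toMonoidHom) he
  rw [MonoidHom.map_closure, Set.image_pair, Subgroup.map_top_of_surjective _ f.surjective] at this
  exact this

theorem hasPresThree (n : ℕ) (hn : 5 ≤ n) :
    HasPresThree (Perm (Fin n)) ∧ HasPresThree ↥(alternatingGroup (Fin n)) := by
  obtain ⟨k, rfl⟩ : ∃ k, n = 2 + k := ⟨n - 2, by omega⟩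
  constructor
  · obtain ⟨T, -, hS, h⟩ := exists_presentation k (by omega) (-1)
    exact HasPresThree.of_equiv (T := T) h (((MulEquiv.subgroupCongr (hS rfl)).trans Subgroup.topEquiv).trans
      (Equiv.permCongrHom finSumFinEquiv))
  · obtain ⟨T, hA, -, h⟩ := exists_presentation k (by omega) 1
    exact HasPresThree.of_equiv (T := T) h ((MulEquiv.subgroupCongr (hA rfl)).trans
      (Equiv.altCongrHom finSumFinEquiv))

theorem HasPresThree.hasPres {T : Type*} [Group T] [Finite T] (h : HasPresThree T) : HasPres T := by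
  obtain ⟨rels, hc, e, he⟩ := h
  obtain ⟨rels', hc', e', -⟩ := exists_rels_of_gens rels e
    ![e (PresentedGroup.of 1), e (PresentedGroup.of 2)]
    (by rw [pair_range]; exact he) ![some 1, some 2]
    (fun j i hji => by
      fin_cases j <;> simp at hji <;> subst hji <;> rfl)
    (fun j j' i h1 h2 => by revert j j' i; decide)
  have h0 : (Finset.univ.filter fun j : Fin 2 => (![some (1 : Fin 3), some 2] j) = none) = ∅ := by decide
  rw [h0, Finset.card_empty] at hc'
  exact ⟨rels', by omega, ⟨e'⟩⟩

theorem HasPresThree.any_pair {T : Type*} [Group T] [Finite T] (h : HasPresThree T) (a b : T)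
    (hab : Subgroup.closure ({a, b} : Set T) = ⊤) :
    ∃ rels : Finset (FreeGroup (Fin 2)), rels.card ≤ 9 ∧
      ∃ e : PresentedGroup (↑rels : Set (FreeGroup (Fin 2))) ≃* T,
        e (PresentedGroup.of 0) = a ∧ e (PresentedGroup.of 1) = b := by
  obtain ⟨rels, hc, e, -⟩ := h
  obtain ⟨rels', hc', e', he'⟩ := exists_rels_of_gens rels e ![a, b]
    (by rw [pair_range]; exact hab) (fun _ => none) (fun j i hji => by simp at hji)
    (fun j j' i h1 _ => by simp at h1)
  have h0 : (Finset.univ.filter fun _ : Fin 2 => (none : Option (Fin 3)) = none).card = 2 := by simp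
  rw [h0] at hc'
  exact ⟨rels', by omega, e', he' 0, he' 1⟩

end Cfsg.Agent.AltPresent
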