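import Mathlib
import Cfsg.Agent.EqLemmas

/-!
Carmichael's presentation of the alternating group: a group generated by `x i` (`i : ι`) with
`x i ^ 3 = 1` and `(x i * x j) ^ 2 = 1` for `i ≠ j` is an image of the alternating group on
`Fin 2 ⊕ ι`, the `x i` corresponding to the three-cycles `cyc i`.
-/

set_option autoImplicit false

namespace Cfsg.Agent.AltPresent

open Equiv Equiv.Perm

variable {ι : Type*}

/-- The three-cycle `(inl 0, inl 1, inr i)`. -/
def cyc [DecidableEq ι] (i : ι) : Perm (Fin 2 ⊕ ι) :=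
  swap (Sum.inl 0) (Sum.inr i) * swap (Sum.inl 0) (Sum.inl 1)

/-- The permutation acting as `τ` on the two fixed letters and as `ρ` on `ι`. -/
def pairPerm (τ : Perm (Fin 2)) (ρ : Perm ι) : Perm (Fin 2 ⊕ ι) := Equiv.sumCongr τ ρ

theorem pairPerm_mul (τ τ' : Perm (Fin 2)) (ρ ρ' : Perm ι) :
    pairPerm τ ρ * pairPerm τ' ρ' = pairPerm (τ * τ') (ρ * ρ') := by
  ext x
  cases x <;> rfl

theorem pairPerm_one : pairPerm (1 : Perm (Fin 2)) (1 : Perm ι) = 1 := by
  ext x
  cases x <;> rfl

theorem pairPerm_inv (τ : Perm (Fin 2)) (ρ : Perm ι) : (pairPerm τ ρ)⁻¹ = pairPerm τ⁻¹ ρ⁻¹ := by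
  rw [inv_eq_iff_mul_eq_one, pairPerm_mul, mul_inv_cancel, mul_inv_cancel, pairPerm_one]

theorem pairPerm_pow (τ : Perm (Fin 2)) (ρ : Perm ι) (n : ℕ) :
    pairPerm τ ρ ^ n = pairPerm (τ ^ n) (ρ ^ n) := by
  induction n with
  | zero => simp [pairPerm_one]
  | succ n ih => rw [pow_succ, ih, pairPerm_mul, ← pow_succ, ← pow_succ]

theorem perm_two_cases (τ : Perm (Fin 2)) : τ = 1 ∨ τ = swap 0 1 := by
  revert τ; decide

variable [DecidableEq ι]

theorem sign_pairPerm [Fintype ι] (τ : Perm (Fin 2)) (ρ : Perm ι) :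
    sign (pairPerm τ ρ) = sign τ * sign ρ := sign_sumCongr τ ρ

theorem sign_cyc [Fintype ι] (i : ι) : sign (cyc i) = 1 := by
  rw [cyc, Perm.sign_mul, sign_swap (by simp), sign_swap (by simp)]; decide

theorem cyc_inv (i : ι) :
    (cyc i)⁻¹ = swap (Sum.inl 1) (Sum.inr i) * swap (Sum.inl 1) (Sum.inl 0) := by
  rw [cyc, mul_inv_rev, swap_inv, swap_inv]
  ext x
  simp only [Perm.mul_apply, swap_apply_def]
  split_ifs <;> simp_all

/-- Conjugation of a three-cycle by a pair permutation. -/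
theorem pairPerm_conj_cyc (τ : Perm (Fin 2)) (ρ : Perm ι) (i : ι) :
    pairPerm τ ρ * cyc i * (pairPerm τ ρ)⁻¹ = cyc (ρ i) ^ ((sign τ : ℤˣ) : ℤ) := by
  have h : ∀ (σ : Perm (Fin 2 ⊕ ι)) (a b c d : Fin 2 ⊕ ι),
      σ * (swap a b * swap c d) * σ⁻¹ = swap (σ a) (σ b) * swap (σ c) (σ d) := by
    intro σ a b c d
    rw [Equiv.swap_apply_apply, Equiv.swap_apply_apply]; group
  rw [cyc, h]
  rcases perm_two_cases τ with rfl | rfl
  · simp [pairPerm, cyc]
  · rw [sign_swap (by decide), Units.val_neg, Units.val_one, zpow_neg, zpow_one, cyc_inv]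
    simp [pairPerm]

theorem cyc_mem_alternatingGroup [Fintype ι] (i : ι) : cyc i ∈ alternatingGroup (Fin 2 ⊕ ι) :=
  Equiv.Perm.mem_alternatingGroup.mpr (sign_cyc i)

theorem cyc_pow_three (i : ι) : cyc i ^ 3 = 1 := by
  ext x
  simp only [pow_succ, pow_zero, one_mul, cyc, Perm.mul_apply, Perm.one_apply]
  rcases x with a | b
  · fin_cases a <;> simp [swap_apply_def]
  · by_cases hb : b = i <;> simp [swap_apply_def, hb]

theorem cyc_mul_sq {i j : ι} (hij : i ≠ j) : (cyc i * cyc j) ^ 2 = 1 := by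
  ext x
  simp only [pow_succ, pow_zero, one_mul, cyc, Perm.mul_apply, Perm.one_apply]
  rcases x with a | b
  · fin_cases a <;> simp [swap_apply_def, hij, hij.symm]
  · by_cases hb : b = i
    · simp [swap_apply_def, hb, hij, hij.symm]
    · by_cases hc : b = j <;> simp [swap_apply_def, hb, hc, hij, hij.symm]

/-- The three-cycles generate the alternating group. -/
theorem closure_cyc [Fintype ι] [Nonempty ι] :
    Subgroup.closure (Set.range (cyc (ι := ι))) = alternatingGroup (Fin 2 ⊕ ι) := by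
  set K := Subgroup.closure (Set.range (cyc (ι := ι))) with hK
  refine le_antisymm ((Subgroup.closure_le _).mpr (Set.range_subset_iff.mpr cyc_mem_alternatingGroup)) ?_
  set s : Perm (Fin 2 ⊕ ι) := swap (Sum.inl 0) (Sum.inl 1) with hs
  have hsp : s = pairPerm (swap 0 1) (1 : Perm ι) := by
    ext x; rcases x with a | b
    · fin_cases a <;> simp [hs, pairPerm, swap_apply_def]
    · simp [hs, pairPerm, swap_apply_def]
  have hconj : ∀ x ∈ K, s * x * s⁻¹ ∈ K := by
    intro x hx
    induction hx using Subgroup.closure_induction with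
    | mem _ h =>
      obtain ⟨i, rfl⟩ := h
      rw [hsp, pairPerm_conj_cyc]
      exact zpow_mem (Subgroup.subset_closure (Set.mem_range_self _)) _
    | one => simp
    | mul a b _ _ ha hb => rw [show s * (a * b) * s⁻¹ = (s * a * s⁻¹) * (s * b * s⁻¹) by group]; exact mul_mem ha hb
    | inv a _ ha => rw [show s * a⁻¹ * s⁻¹ = (s * a * s⁻¹)⁻¹ by group]; exact inv_mem ha
  have hss : s * s = 1 := swap_mul_self _ _
  have hsi : s⁻¹ = s := inv_eq_of_mul_eq_one_right hss
  rw [hsi] at hconj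
  let K' : Subgroup (Perm (Fin 2 ⊕ ι)) :=
    { carrier := {σ | σ ∈ K ∨ σ * s ∈ K}
      one_mem' := Or.inl (one_mem K)
      mul_mem' := by
        rintro a b (ha | ha) (hb | hb)
        · exact Or.inl (mul_mem ha hb)
        · exact Or.inr (by rw [mul_assoc]; exact mul_mem ha hb)
        · refine Or.inr ?_
          rw [show a * b * s = a * s * (s * b * s) by
            rw [show a * s * (s * b * s) = a * (s * s) * b * s by group, hss, mul_one]]
          exact mul_mem ha (hconj b hb)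
        · refine Or.inl ?_
          rw [show a * b = a * s * (s * (b * s) * s) by
            rw [show a * s * (s * (b * s) * s) = a * (s * s) * b * (s * s) by group, hss, mul_one, mul_one]]
          exact mul_mem ha (hconj _ hb)
      inv_mem' := by
        rintro a (ha | ha)
        · exact Or.inl (inv_mem ha)
        · refine Or.inr ?_
          rw [show a⁻¹ * s = s * (a * s)⁻¹ * s by rw [mul_inv_rev, hsi, ← mul_assoc, hss, one_mul]]
          exact hconj _ (inv_mem ha) }
  have hsK' : s ∈ K' := Or.inr (by rw [hss]; exact one_mem K)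
  have hcK' : ∀ i, cyc i ∈ K' := fun i => Or.inl (Subgroup.subset_closure ⟨i, rfl⟩)
  have h0 : ∀ i : ι, swap (Sum.inl 0) (Sum.inr i) ∈ K' := fun i => by
    have : swap (Sum.inl 0) (Sum.inr i) = cyc i * s := by rw [cyc, mul_assoc, hs, swap_mul_self, mul_one]
    rw [this]; exact mul_mem (hcK' i) hsK'
  have hall : ∀ x y : Fin 2 ⊕ ι, x ≠ y → swap x y ∈ K' := by
    have hz : ∀ x : Fin 2 ⊕ ι, x ≠ Sum.inl 0 → swap (Sum.inl 0) x ∈ K' := by
      rintro (a | b) hx
      · fin_cases a
        · simp at hx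
        · exact hsK'
      · exact h0 b
    intro x y hxy
    by_cases hx : x = Sum.inl 0
    · subst hx; exact hz y (Ne.symm hxy)
    · by_cases hy : y = Sum.inl 0
      · subst hy; rw [swap_comm]; exact hz x hx
      · rw [show swap x y = swap (Sum.inl 0) x * swap (Sum.inl 0) y * (swap (Sum.inl 0) x)⁻¹ by
          rw [← Equiv.swap_apply_apply, swap_apply_left, swap_apply_of_ne_of_ne hy (Ne.symm hxy)]]
        exact mul_mem (mul_mem (hz x hx) (hz y hy)) (inv_mem (hz x hx))
  intro σ hσ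
  have hσK : σ ∈ K' := by
    have : (⊤ : Subgroup (Perm (Fin 2 ⊕ ι))) ≤ K' := by
      rw [← Equiv.Perm.closure_isSwap, Subgroup.closure_le]
      rintro τ ⟨x, y, hxy, rfl⟩
      exact hall x y hxy
    exact this (Subgroup.mem_top σ)
  rcases hσK with h | h
  · exact h
  · exfalso
    have h1 : sign (σ * s) = 1 := Equiv.Perm.mem_alternatingGroup.mp
      ((Subgroup.closure_le _).mpr (Set.range_subset_iff.mpr cyc_mem_alternatingGroup) h)
    rw [Perm.sign_mul, Equiv.Perm.mem_alternatingGroup.mp hσ, hs, sign_swap (by simp)] at h1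
    exact absurd h1 (by decide)

section Bound

omit [DecidableEq ι]
variable {G : Type*} [Group G]

theorem coset_step {x a : G} (hx : x ^ 3 = 1) (ha : a ^ 3 = 1) (hxa : (x * a) ^ 2 = 1) :
    x * a = a ^ 2 * x ^ 2 ∧ x ^ 2 * a * x = a ^ 2 * (x ^ 2 * a) ∧ x ^ 2 * a * a = a * x ∧
      a * x = x ^ 2 * a ^ 2 := by
  have hxi : x⁻¹ = x ^ 2 := inv_eq_of_mul_eq_one_right (by rw [← pow_succ', hx])
  have hai : a⁻¹ = a ^ 2 := inv_eq_of_mul_eq_one_right (by rw [← pow_succ', ha])
  have h1 : x * a = a ^ 2 * x ^ 2 := by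
    rw [← hxi, ← hai, ← mul_inv_rev]
    exact eq_inv_of_mul_eq_one_left (by rw [← pow_two, hxa])
  have h2 : a * x = x ^ 2 * a ^ 2 := by
    rw [← hxi, ← hai, ← mul_inv_rev]
    refine eq_inv_of_mul_eq_one_left ?_
    rw [show a * x * (a * x) = x⁻¹ * ((x * a) ^ 2) * x by rw [pow_two]; group, hxa, mul_one,
      inv_mul_cancel]
  refine ⟨h1, ?_, ?_, h2⟩
  · calc x ^ 2 * a * x = x ^ 2 * (a * x) := mul_assoc _ _ _
      _ = x ^ 3 * x * a ^ 2 := by rw [h2]; group
      _ = x * a * a := by rw [hx, one_mul, pow_two, mul_assoc]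
      _ = a ^ 2 * (x ^ 2 * a) := by rw [h1]; group
  · rw [mul_assoc, ← pow_two, ← h2]

/-- Carmichael's bound. -/
theorem card_closure_le (x : ι → G) (h3 : ∀ i, x i ^ 3 = 1)
    (h2 : ∀ i j, i ≠ j → (x i * x j) ^ 2 = 1) (s : Finset ι) :
    (Subgroup.closure (x '' s) : Set G).Finite ∧
      2 * Nat.card (Subgroup.closure (x '' s)) ≤ (s.card + 2).factorial := by
  classical
  induction s using Finset.induction_on with
  | empty => simp
  | @insert i₀ s hi ih =>
    obtain ⟨hfin, hcard⟩ := ih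
    set H := Subgroup.closure (x '' s) with hH
    let rep : Fin 3 ⊕ s → G := Sum.elim (fun t => (x i₀) ^ (t : ℕ)) (fun j => (x i₀) ^ 2 * x j)
    set U : Set G := (fun q : H × (Fin 3 ⊕ s) => (q.1 : G) * rep q.2) '' Set.univ with hU
    haveI : Finite H := hfin.to_subtype
    have hUfin : U.Finite := Set.finite_univ.image _
    have memU : ∀ h ∈ H, ∀ q, h * rep q ∈ U := fun h hh q => ⟨(⟨h, hh⟩, q), trivial, rfl⟩
    have memP : ∀ h ∈ H, ∀ t, t < 3 → h * (x i₀) ^ t ∈ U := fun h hh t ht => memU h hh (.inl ⟨t, ht⟩)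
    have memQ : ∀ h ∈ H, ∀ j ∈ s, h * ((x i₀) ^ 2 * x j) ∈ U := fun h hh j hj => memU h hh (.inr ⟨j, hj⟩)
    have hxH : ∀ j ∈ s, x j ∈ H := fun j hj => Subgroup.subset_closure ⟨j, hj, rfl⟩
    have hmul : ∀ u ∈ U, ∀ j ∈ insert i₀ s, u * x j ∈ U := by
      rintro u ⟨⟨⟨h, hh⟩, q⟩, -, rfl⟩ j hj
      rcases Finset.mem_insert.mp hj with hj0 | hj
      · subst hj0
        rcases q with ⟨t, ht⟩ | ⟨i, hi'⟩
        · show h * (x j) ^ t * (x j) ∈ U
          rw [mul_assoc, ← pow_succ]
          rcases eq_or_ne t 2 with rfl | h'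
          · rw [h3, ← pow_zero (x j)]; exact memP h hh 0 (by norm_num)
          · exact memP h hh _ (by omega)
        · show h * ((x j) ^ 2 * x i) * (x j) ∈ U
          rw [mul_assoc, (coset_step (h3 j) (h3 i) (h2 j i (by rintro rfl; exact hi hi'))).2.1, ← mul_assoc]
          exact memQ _ (mul_mem hh (pow_mem (hxH i hi') 2)) i hi'
      · have hne : i₀ ≠ j := by rintro rfl; exact hi hj
        obtain ⟨e1, -, e3, e4⟩ := coset_step (h3 i₀) (h3 j) (h2 i₀ j hne)
        rcases q with ⟨t, ht⟩ | ⟨i, hi'⟩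
        · show h * (x i₀) ^ t * x j ∈ U
          interval_cases t
          · rw [pow_zero, mul_one, ← mul_one (h * x j), ← pow_zero (x i₀)]
            exact memP _ (mul_mem hh (hxH j hj)) 0 (by norm_num)
          · rw [pow_one, mul_assoc, e1, ← mul_assoc]
            exact memP _ (mul_mem hh (pow_mem (hxH j hj) 2)) 2 (by norm_num)
          · rw [mul_assoc]; exact memQ h hh j hj
        · show h * ((x i₀) ^ 2 * x i) * x j ∈ U
          rcases eq_or_ne i j with rfl | hij
          · rw [mul_assoc, e3, ← mul_assoc, ← pow_one (x i₀)]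
            exact memP _ (mul_mem hh (hxH i hi')) 1 (by norm_num)
          · obtain ⟨e1', -, -, -⟩ := coset_step (h3 i₀) (h3 i) (h2 i₀ i (by rintro rfl; exact hi hi'))
            obtain ⟨f1, -, -, -⟩ := coset_step (h3 i) (h3 j) (h2 i j hij)
            rw [show h * ((x i₀) ^ 2 * x i) * x j = (h * (x j * x i ^ 2)) * ((x i₀) ^ 2 * x i) by
              calc h * ((x i₀) ^ 2 * x i) * x j = h * ((x i₀) ^ 2 * (x i * x j)) := by group
                _ = h * ((x i₀) ^ 2 * x j ^ 2) * x i ^ 2 := by rw [f1]; group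
                _ = h * (x j * (x i₀)) * x i ^ 2 := by rw [e4]
                _ = h * x j * ((x i₀) * x i) * x i := by rw [pow_two]; group
                _ = (h * (x j * x i ^ 2)) * ((x i₀) ^ 2 * x i) := by rw [e1']; group]
            exact memQ _ (mul_mem hh (mul_mem (hxH j hj) (pow_mem (hxH i hi') 2))) i hi'
    have hsub : (Subgroup.closure (x '' (insert i₀ s : Finset ι)) : Set G) ⊆ U := by
      intro g hg
      have hu1 : (1 : G) ∈ U := by simpa using memP 1 (one_mem H) 0 (by norm_num)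
      suffices ∀ u ∈ U, u * g ∈ U by simpa using this 1 hu1
      induction hg using Subgroup.closure_induction_right with
      | one => simp
      | mul_right a _ b hb ha =>
        obtain ⟨j, hj, rfl⟩ := hb
        intro u hu
        rw [← mul_assoc]; exact hmul _ (ha u hu) j hj
      | mul_inv_cancel a _ b hb ha =>
        obtain ⟨j, hj, rfl⟩ := hb
        intro u hu
        have : (x j)⁻¹ = x j * x j := inv_eq_of_mul_eq_one_right (by rw [← mul_assoc, ← pow_three', h3])
        rw [this, ← mul_assoc, ← mul_assoc]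
        exact hmul _ (hmul _ (ha u hu) j hj) j hj
    refine ⟨hUfin.subset hsub, ?_⟩
    have hle : Nat.card (Subgroup.closure (x '' (insert i₀ s : Finset ι))) ≤ Nat.card H * (3 + s.card) := by
      refine (Nat.card_mono hUfin hsub).trans ?_
      refine (Nat.card_image_le Set.finite_univ).trans ?_
      rw [Nat.card_univ, Nat.card_prod, Nat.card_sum, Nat.card_fin, Nat.card_eq_finsetCard]
    rw [Finset.card_insert_of_notMem hi, show s.card + 1 + 2 = (s.card + 2) + 1 by ring, Nat.factorial_succ]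
    calc 2 * Nat.card (Subgroup.closure (x '' (insert i₀ s : Finset ι)))
        ≤ 2 * (Nat.card H * (3 + s.card)) := Nat.mul_le_mul_left 2 hle
      _ = (s.card + 2 + 1) * (2 * Nat.card H) := by ring
      _ ≤ _ := Nat.mul_le_mul_left _ hcard

end Bound

/-- Carmichael's presentation. -/
theorem exists_hom [Fintype ι] [Nonempty ι] {G : Type*} [Group G] (x : ι → G) (h3 : ∀ i, x i ^ 3 = 1)
    (h2 : ∀ i j, i ≠ j → (x i * x j) ^ 2 = 1) :
    ∃ φ : ↥(alternatingGroup (Fin 2 ⊕ ι)) →* G, (∀ i, φ ⟨cyc i, cyc_mem_alternatingGroup i⟩ = x i) ∧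
      φ.range = Subgroup.closure (Set.range x) := by
  classical
  let w : ι → G × ↥(alternatingGroup (Fin 2 ⊕ ι)) := fun i => (x i, ⟨cyc i, cyc_mem_alternatingGroup i⟩)
  obtain ⟨hfin, hcard⟩ := card_closure_le w
    (fun i => Prod.ext (h3 i) (Subtype.ext (cyc_pow_three i)))
    (fun i j hij => Prod.ext (h2 i j hij) (Subtype.ext (cyc_mul_sq hij))) Finset.univ
  rw [Finset.coe_univ, Set.image_univ] at hcard hfin
  rw [Finset.card_univ] at hcard
  set K := Subgroup.closure (Set.range w) with hK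
  haveI : Finite K := hfin.to_subtype
  let pr : K →* ↥(alternatingGroup (Fin 2 ⊕ ι)) := (MonoidHom.snd G _).comp K.subtype
  have hrange : pr.range = ⊤ := by
    apply Subgroup.map_injective (Subgroup.subtype_injective (alternatingGroup (Fin 2 ⊕ ι)))
    rw [← MonoidHom.range_eq_map, Subgroup.range_subtype]
    refine le_antisymm (Subgroup.map_subtype_le _) ?_
    conv_lhs => rw [← closure_cyc (ι := ι)]
    rw [Subgroup.closure_le]
    rintro _ ⟨i, rfl⟩
    exact ⟨⟨cyc i, cyc_mem_alternatingGroup i⟩,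
      ⟨⟨w i, Subgroup.subset_closure ⟨i, rfl⟩⟩, rfl⟩, rfl⟩
  have hs : Function.Surjective pr := MonoidHom.range_eq_top.mp hrange
  have hA : 2 * Nat.card ↥(alternatingGroup (Fin 2 ⊕ ι)) = (Fintype.card ι + 2).factorial := by
    haveI : Nontrivial (Fin 2 ⊕ ι) := ⟨Sum.inl 0, Sum.inl 1, by simp⟩
    rw [two_mul_nat_card_alternatingGroup, Nat.card_eq_fintype_card, Fintype.card_perm, Fintype.card_sum,
      Fintype.card_fin, add_comm]
  have hbij : Function.Bijective pr := by
    refine hs.bijective_of_nat_card_le ?_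
    omega
  let eqv := MulEquiv.ofBijective pr hbij
  let φ := ((MonoidHom.fst G _).comp K.subtype).comp eqv.symm.toMonoidHom
  have hφ : ∀ i, φ ⟨cyc i, cyc_mem_alternatingGroup i⟩ = x i := fun i => by
    have h : eqv.symm ⟨cyc i, cyc_mem_alternatingGroup i⟩ = ⟨w i, Subgroup.subset_closure ⟨i, rfl⟩⟩ :=
      (MulEquiv.symm_apply_eq _).mpr rfl
    show ((eqv.symm ⟨cyc i, cyc_mem_alternatingGroup i⟩ : K) : G × ↥(alternatingGroup (Fin 2 ⊕ ι))).1 = _
    rw [h]
  refine ⟨φ, hφ, le_antisymm ?_ ((Subgroup.closure_le _).mpr ?_)⟩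
  · rintro _ ⟨a, rfl⟩
    have : (K.map (MonoidHom.fst G _)) ≤ Subgroup.closure (Set.range x) := by
      rw [hK, MonoidHom.map_closure, Subgroup.closure_le]
      rintro _ ⟨_, ⟨i, rfl⟩, rfl⟩
      exact Subgroup.subset_closure ⟨i, rfl⟩
    exact this ⟨_, (eqv.symm a).2, rfl⟩
  · rintro _ ⟨i, rfl⟩
    exact ⟨_, hφ i⟩

/-- Every element of the alternating group is a product of the three-cycles. -/
theorem exists_word [Fintype ι] [Nonempty ι] {σ : Perm (Fin 2 ⊕ ι)} (hσ : sign σ = 1) :
    ∃ L : List ι, (L.map cyc).prod = σ := by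
  have hmem : σ ∈ Subgroup.closure (Set.range (cyc (ι := ι))) := by
    rw [closure_cyc]; exact Equiv.Perm.mem_alternatingGroup.mpr hσ
  induction hmem using Subgroup.closure_induction_right with
  | one => exact ⟨[], rfl⟩
  | mul_right a _ b hb ha =>
    obtain ⟨i, rfl⟩ := hb
    obtain ⟨L, hL⟩ := ha (by rwa [Perm.sign_mul, sign_cyc, mul_one] at hσ)
    exact ⟨L ++ [i], by simp [hL]⟩
  | mul_inv_cancel a _ b hb ha =>
    obtain ⟨i, rfl⟩ := hb
    obtain ⟨L, hL⟩ := ha (by rwa [Perm.sign_mul, Perm.sign_inv, sign_cyc, mul_one] at hσ)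
    refine ⟨L ++ [i, i], ?_⟩
    rw [List.map_append, List.prod_append, hL]
    simp only [List.map_cons, List.map_nil, List.prod_cons, List.prod_nil, mul_one]
    congr 1
    exact (inv_eq_of_mul_eq_one_right (by rw [← mul_assoc, ← pow_three', cyc_pow_three])).symm

end Cfsg.Agent.AltPresent
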