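import Cfsg.Agent.Lib.AltPresent.Carmichael

/-!
A presentation of alternating and symmetric groups with three generators and seven relations.

The generators `u, z, g` stand for a `p`-cycle, a three-cycle `(a, b, 0)` and a `k`-cycle possibly
multiplied by `(a, b)`, where `n = k + 2` and `p` is a prime with `p ≤ k ≤ 2 p - 1`.
-/

set_option autoImplicit false

namespace Cfsg.Agent.AltPresent

open Equiv Equiv.Perm

/-- The parameters of the presentation. -/
structure Dat where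
  k : ℕ
  p : ℕ
  r : ℕ
  s : ℕ
  expo : ℕ
  e : ℕ
  eps : ℤˣ
  wν : List (Fin p)
  wπ : List (Fin p)
  wω : List (Fin k)

section Words

variable (D : Dat) {H : Type*} [Group H] (u z g : H)

def xw (i : ℕ) : H := u ^ i * z * (u ^ i)⁻¹

def yw (i : ℕ) : H := g ^ i * z ^ ((D.eps ^ i : ℤˣ) : ℤ) * (g ^ i)⁻¹

def eta : ℤˣ := -(D.eps ^ D.k)

def nw : H := (D.wν.map fun i : Fin D.p => xw u z i).prod

def piw : H := (D.wπ.map fun i : Fin D.p => xw u z i).prod

def omw : H := (D.wω.map fun i : Fin D.k => yw D z g i).prod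

def vw : H := nw D u z * g ^ D.k

/-- The seven relators. -/
def relList : List H :=
  [u ^ D.p * (vw D u z g ^ (D.p - 1))⁻¹,
   vw D u z g * u ^ D.s * (vw D u z g)⁻¹ * (u ^ (D.s + 1))⁻¹,
   z ^ 3 * ((z * xw u z 1) ^ 2)⁻¹,
   vw D u z g * z * (vw D u z g)⁻¹ * (z ^ (eta D : ℤ))⁻¹,
   g * z * g⁻¹ * (u * z ^ ((D.eps : ℤ) * D.expo) * u⁻¹)⁻¹,
   g * piw D u z * g⁻¹ * (u * piw D u z * u⁻¹)⁻¹,
   g ^ D.e * u * (omw D z g)⁻¹]

theorem relList_map {H' : Type*} [Group H'] (f : H →* H') :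
    relList D (f u) (f z) (f g) = (relList D u z g).map f := by
  simp [relList, vw, nw, piw, omw, xw, yw, map_list_prod, List.map_map, Function.comp_def, map_zpow]

end Words

/-- The conditions on the parameters. -/
structure Dat.Good (D : Dat) : Prop where
  hp : D.p.Prime
  hp3 : 3 ≤ D.p
  hpk : D.p ≤ D.k
  hkp : D.k + 1 ≤ 2 * D.p
  hr : ∀ i, 0 < i → i < D.p → ∃ j, D.r ^ j % D.p = i
  hrs : D.r * D.s % D.p = (D.s + 1) % D.p
  hexpo : D.expo % 3 = 1
  hcop : (D.expo ^ D.k + 1).Coprime (D.p + 2).factorial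
  he : 0 < D.e
  hν : (D.wν.map cyc).prod * cyc ⟨0, hp.pos⟩ * ((D.wν.map cyc).prod)⁻¹ = (cyc ⟨0, hp.pos⟩)⁻¹
  hπ : ∀ i (h : i + 2 ≤ D.p), ((D.wπ.map cyc).prod) ^ i * cyc ⟨0, hp.pos⟩ *
    (((D.wπ.map cyc).prod) ^ i)⁻¹ = cyc ⟨i, by omega⟩ ^ (((-1) ^ i : ℤˣ) : ℤ)

variable {G : Type*} [Group G]

theorem conj_eq_of_rel {a b : G} (h : a * b⁻¹ = 1) : a = b := mul_inv_eq_one.mp h

theorem sq_zpow_unit {a b : G} (σ : ℤˣ) (h : (a * b) ^ 2 = 1) :
    (a ^ (σ : ℤ) * b ^ (σ : ℤ)) ^ 2 = 1 := by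
  rcases Int.units_eq_one_or σ with rfl | rfl
  · simpa using h
  · simp only [Units.val_neg, Units.val_one, zpow_neg, zpow_one]
    rw [← mul_inv_rev, inv_pow, inv_eq_one]
    rw [show b * a = a⁻¹ * (a * b) * a by group, show (a⁻¹ * (a * b) * a) ^ 2 = a⁻¹ * (a * b) ^ 2 * a from
      by simpa using (conj_pow (i := 2) (a := a⁻¹) (b := a * b)), h, mul_one, inv_mul_cancel]

theorem conj_comm_sq {a b : G} (h : (a * b) ^ 2 = 1) : (b * a) ^ 2 = 1 := by
  rw [show b * a = a⁻¹ * (a * b) * a by group, show (a⁻¹ * (a * b) * a) ^ 2 = a⁻¹ * (a * b) ^ 2 * a from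
    by simpa using (conj_pow (i := 2) (a := a⁻¹) (b := a * b)), h, mul_one, inv_mul_cancel]

/-- A central element which is a common cube of a Carmichael family has order dividing `(m + 2)!`. -/
theorem central_cube_pow {m : ℕ} (hm : 2 ≤ m) (x : Fin m → G) (c : G)
    (hc3 : ∀ i, x i ^ 3 = c) (h2 : ∀ i j, i ≠ j → (x i * x j) ^ 2 = c) :
    c ^ (m + 2).factorial = 1 := by
  haveI : Nonempty (Fin m) := ⟨⟨0, by omega⟩⟩
  set NX := Subgroup.closure (Set.range x) with hNX
  let x' : Fin m → NX := fun i => ⟨x i, Subgroup.subset_closure ⟨i, rfl⟩⟩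
  let c' : NX := x' ⟨0, by omega⟩ ^ 3
  have hc' : (c' : G) = c := hc3 _
  have hc3' : ∀ i, x' i ^ 3 = c' := fun i => Subtype.ext ((hc3 i).trans hc'.symm)
  have h2' : ∀ i j, i ≠ j → (x' i * x' j) ^ 2 = c' := fun i j h => Subtype.ext ((h2 i j h).trans hc'.symm)
  have hgen : Subgroup.closure (Set.range x') = ⊤ := by
    apply Subgroup.map_injective (Subgroup.subtype_injective NX)
    rw [MonoidHom.map_closure, ← MonoidHom.range_eq_map, Subgroup.range_subtype, ← Set.range_comp]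
    rfl
  have hcz : c' ∈ Subgroup.center NX := by
    rw [Subgroup.mem_center_iff]
    intro q
    induction (show q ∈ Subgroup.closure (Set.range x') by rw [hgen]; trivial) using Subgroup.closure_induction with
    | mem _ h => obtain ⟨i, rfl⟩ := h; rw [← hc3' i]; exact (Commute.self_pow _ _).eq
    | one => simp
    | mul a b _ _ ha hb => rw [mul_assoc, hb, ← mul_assoc, ha, mul_assoc]
    | inv a _ ha => exact (Commute.inv_left ha).eq
  set C := Subgroup.zpowers c' with hC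
  have hCle : C ≤ Subgroup.center NX := Subgroup.zpowers_le.mpr hcz
  haveI : C.Normal := ⟨fun a ha b => by
    have := Subgroup.mem_center_iff.mp (hCle ha) b
    rw [this, mul_assoc, mul_inv_cancel, mul_one]; exact ha⟩
  let y : Fin m → NX ⧸ C := fun i => QuotientGroup.mk (x' i)
  have hq : (QuotientGroup.mk c' : NX ⧸ C) = 1 := (QuotientGroup.eq_one_iff _).mpr (Subgroup.mem_zpowers _)
  obtain ⟨φ, -, hφr⟩ := exists_hom y
    (fun i => by show (QuotientGroup.mk (x' i) : NX ⧸ C) ^ 3 = 1; rw [← QuotientGroup.mk_pow, hc3', hq])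
    (fun i j h => by
      show ((QuotientGroup.mk (x' i) : NX ⧸ C) * QuotientGroup.mk (x' j)) ^ 2 = 1
      rw [← QuotientGroup.mk_mul, ← QuotientGroup.mk_pow, h2' i j h, hq])
  have hsurj : Function.Surjective φ := by
    rw [← MonoidHom.range_eq_top, hφr]
    have := congrArg (Subgroup.map (QuotientGroup.mk' C)) hgen
    rw [MonoidHom.map_closure, ← Set.range_comp, Subgroup.map_top_of_surjective _ (QuotientGroup.mk'_surjective C)] at this
    exact this
  haveI : Finite (NX ⧸ C) := Finite.of_surjective φ hsurj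
  have hA : C.index ∣ (m + 2).factorial := by
    haveI : Nontrivial (Fin 2 ⊕ Fin m) := ⟨Sum.inl 0, Sum.inl 1, by simp⟩
    have h := two_mul_nat_card_alternatingGroup (α := Fin 2 ⊕ Fin m)
    rw [Nat.card_eq_fintype_card (α := Perm (Fin 2 ⊕ Fin m)), Fintype.card_perm, Fintype.card_sum,
      Fintype.card_fin, Fintype.card_fin, add_comm 2 m] at h
    rw [← h]
    exact (Subgroup.card_dvd_of_surjective φ hsurj).trans (Dvd.intro_left 2 rfl)
  haveI : C.FiniteIndex := Subgroup.finiteIndex_of_finite_quotient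
  haveI : (Subgroup.center NX).FiniteIndex := Subgroup.finiteIndex_of_le hCle
  let f := MonoidHom.transferCenterPow NX
  have e0 : f (x' ⟨0, by omega⟩) ^ 3 = f c' := by rw [← map_pow]
  have e1 : f (x' ⟨1, by omega⟩) ^ 3 = f c' := by rw [← map_pow, hc3']
  have e2 : (f (x' ⟨0, by omega⟩) * f (x' ⟨1, by omega⟩)) ^ 2 = f c' := by
    rw [← map_mul, ← map_pow, h2' _ _ (by simp)]
  have hfc : f c' = 1 := by
    set X := f (x' ⟨0, by omega⟩)
    set Y := f (x' ⟨1, by omega⟩)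
    haveI : IsMulCommutative ↥(Subgroup.center NX) := inferInstance
    have hXY : Commute X Y := mul_comm' X Y
    rw [hXY.mul_pow] at e2
    have h1 : Y ^ 2 = X := mul_left_cancel (a := X ^ 2) (by rw [e2, ← pow_succ, e0])
    have h2 : X ^ 2 = Y := mul_right_cancel (b := Y ^ 2) (by rw [e2, ← pow_succ', e1])
    rw [← e0]
    refine mul_left_cancel (a := X) ?_
    rw [mul_one, ← pow_succ', show 3 + 1 = 2 * 2 from rfl, pow_mul, h2, h1]
  have hpow : c' ^ (Subgroup.center NX).index = 1 := by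
    have := congrArg (fun q : Subgroup.center NX => (q : NX)) hfc
    simpa [f, MonoidHom.transferCenterPow_apply] using this
  have hfin : c' ^ (m + 2).factorial = 1 := by
    obtain ⟨d, hd⟩ := (Subgroup.index_dvd_of_le hCle).trans hA
    rw [hd, pow_mul, hpow, one_pow]
  have := congrArg (fun q : NX => (q : G)) hfin
  simpa [hc'] using this

/-- The upper bound on the order of a group satisfying the relations. -/
theorem card_le_of_rels (D : Dat) (hD : D.Good) (u z g : G)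
    (hgen : Subgroup.closure ({u, z, g} : Set G) = ⊤) (hrel : ∀ w ∈ relList D u z g, w = 1) :
    Finite G ∧ 2 * Nat.card G ≤ D.e * (D.k + 2).factorial := by
  have hp := hD.hp
  have hp0 := hp.pos
  have hp3 := hD.hp3
  have hk0 : 0 < D.k := by have := hD.hpk; omega
  haveI : Nonempty (Fin D.p) := ⟨⟨0, hp0⟩⟩
  haveI : Nonempty (Fin D.k) := ⟨⟨0, hk0⟩⟩
  simp only [relList, List.mem_cons, List.mem_nil_iff, forall_eq_or_imp, or_false,
    forall_eq, mul_inv_eq_one] at hrel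
  obtain ⟨h1, h2, h3, h4, h5, h6, h7⟩ := hrel
  set v := vw D u z g with hv
  set η := eta D with hη
  -- the metacyclic group
  have hup : u ^ D.p = 1 := by
    have e1 : v * (u ^ D.s) ^ D.p * v⁻¹ = (u ^ (D.s + 1)) ^ D.p := by rw [← conj_pow, h2]
    have e2 : v * (u ^ D.s) ^ D.p * v⁻¹ = (u ^ D.s) ^ D.p := by
      rw [← pow_mul, mul_comm D.s, pow_mul, h1, ← pow_mul, (Commute.self_pow v _).eq, mul_assoc,
        mul_inv_cancel, mul_one]
    rw [e2, ← pow_mul, ← pow_mul, add_mul, one_mul, pow_add] at e1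
    exact (mul_eq_left.mp e1.symm)
  have humod : ∀ a : ℕ, u ^ a = u ^ (a % D.p) := fun a => pow_eq_pow_mod a hup
  have hs0 : D.s % D.p ≠ 0 := by
    intro h0
    have h := hD.hrs
    rw [Nat.mul_mod, h0, mul_zero, Nat.zero_mod, Nat.add_mod, h0, zero_add, Nat.mod_mod, Nat.mod_eq_of_lt (show 1 < D.p by omega)] at h
    omega
  obtain ⟨t, -, ht⟩ := Nat.exists_mul_mod_eq_one_of_coprime
    (show D.s.Coprime D.p from (hp.coprime_iff_not_dvd.mpr fun h => hs0 (Nat.mod_eq_zero_of_dvd h)).symm) hp.one_lt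
  have hvu : v * u * v⁻¹ = u ^ D.r := by
    have e : u = (u ^ D.s) ^ t := by rw [← pow_mul, humod, ht, pow_one]
    conv_lhs => rw [e]
    rw [← conj_pow, h2, humod (D.s + 1), ← hD.hrs, ← humod, ← pow_mul, humod, mul_assoc, Nat.mul_mod,
      ht, mul_one, Nat.mod_mod, ← humod]
  have hvju : ∀ j : ℕ, v ^ j * u * (v ^ j)⁻¹ = u ^ D.r ^ j := by
    intro j
    induction j with
    | zero => simp
    | succ j ih =>
      rw [pow_succ' v, show v * v ^ j * u * (v * v ^ j)⁻¹ = v * (v ^ j * u * (v ^ j)⁻¹) * v⁻¹ by group, ih,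
        ← conj_pow, hvu, ← pow_mul, ← pow_succ']
  have hvjz : ∀ j : ℕ, v ^ j * z * (v ^ j)⁻¹ = z ^ ((η ^ j : ℤˣ) : ℤ) := by
    intro j
    induction j with
    | zero => simp
    | succ j ih =>
      rw [pow_succ' v, show v * v ^ j * z * (v * v ^ j)⁻¹ = v * (v ^ j * z * (v ^ j)⁻¹) * v⁻¹ by group, ih,
        ← conj_zpow, h4, ← zpow_mul, pow_succ', Units.val_mul]
  let x : ℕ → G := fun i => u ^ i * z * (u ^ i)⁻¹
  have hxmod : ∀ a : ℕ, x a = x (a % D.p) := fun a => by simp only [x, ← humod]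
  have hx0 : x 0 = z := by simp [x]
  have hxw : ∀ i, xw u z i = x i := fun _ => rfl
  have hxadd : ∀ a b, x (a + b) = u ^ a * x b * (u ^ a)⁻¹ := fun a b => by simp only [x, pow_add]; group
  -- all pair relations among the `x i`
  have hbase : ∀ i, 0 < i → i < D.p → z ^ 3 = (z * x i) ^ 2 ∧ z ^ 3 = (x i * z) ^ 2 := by
    intro i hi hip
    obtain ⟨j, hj⟩ := hD.hr i hi hip
    have hxi : v ^ j * x 1 * (v ^ j)⁻¹ = x i ^ ((η ^ j : ℤˣ) : ℤ) := by
      simp only [x, pow_one]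
      rw [show v ^ j * (u * z * u⁻¹) * (v ^ j)⁻¹ = (v ^ j * u * (v ^ j)⁻¹) * (v ^ j * z * (v ^ j)⁻¹) *
        (v ^ j * u * (v ^ j)⁻¹)⁻¹ by group, hvju, hvjz, conj_zpow, humod, hj]
    have e := congrArg (fun q => v ^ j * q * (v ^ j)⁻¹) h3
    simp only [hxw, ← conj_pow] at e
    rw [show v ^ j * (z * x 1) * (v ^ j)⁻¹ = (v ^ j * z * (v ^ j)⁻¹) * (v ^ j * x 1 * (v ^ j)⁻¹) by group,
      hxi, hvjz] at e
    have hzc : ∀ a b : G, a ^ 3 = (a * b) ^ 2 → a ^ 3 = (b * a) ^ 2 := fun a b h => by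
      rw [show b * a = a⁻¹ * (a * b) * a by group, show (a⁻¹ * (a * b) * a) ^ 2 = a⁻¹ * (a * b) ^ 2 * a from
        by simpa using (conj_pow (i := 2) (a := a⁻¹) (b := a * b)), ← h]
      group
    rcases Int.units_eq_one_or (η ^ j) with h | h <;> rw [h] at e
    · simp only [Units.val_one, zpow_one] at e
      exact ⟨e, hzc _ _ e⟩
    · simp only [Units.val_neg, Units.val_one, zpow_neg, zpow_one] at e
      have e' : z ^ 3 = (x i * z) ^ 2 := by
        rw [← mul_inv_rev, inv_pow, inv_pow, inv_inj] at e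
        exact e
      refine ⟨?_, e'⟩
      rw [show z * x i = z * (x i * z) * z⁻¹ by group, conj_pow, ← e']
      group
  have hshift : ∀ a b, a < D.p → b < D.p → a ≠ b → x a ^ 3 = (x a * x b) ^ 2 ∧ x a ^ 3 = (x b * x a) ^ 2 := by
    intro a b ha hb hab
    set i := (b + D.p - a) % D.p with hi
    have hadd : (a + i) % D.p = b := by
      rw [hi, Nat.add_mod_mod, show a + (b + D.p - a) = b + D.p by omega, Nat.add_mod_right, Nat.mod_eq_of_lt hb]
    have hi0 : 0 < i := Nat.pos_of_ne_zero fun h0 => by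
      rw [h0, add_zero, Nat.mod_eq_of_lt ha] at hadd; exact hab hadd
    obtain ⟨e1, e2⟩ := hbase i hi0 (Nat.mod_lt _ hp0)
    have hb' : x b = u ^ a * x i * (u ^ a)⁻¹ := by rw [← hxadd, hxmod (a + i), hadd]
    rw [hb']
    simp only [x] at e1 e2 ⊢
    constructor
    · rw [conj_pow, e1, ← conj_pow]; congr 1; group
    · rw [conj_pow, e2, ← conj_pow]; congr 1; group
  set c := z ^ 3 with hc
  have hcube : ∀ a, a < D.p → x a ^ 3 = c := by
    intro a ha
    rcases Nat.eq_zero_or_pos a with rfl | h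
    · rw [hx0]
    · rw [(hshift a 0 ha hp0 h.ne').2, hx0]
      exact ((hbase a h ha).1).symm
  have hpair : ∀ a b, a < D.p → b < D.p → a ≠ b → (x a * x b) ^ 2 = c := fun a b ha hb hab => by
    rw [← (hshift a b ha hb hab).1, hcube a ha]
  have hcM : c ^ (D.p + 2).factorial = 1 :=
    central_cube_pow (by omega) (fun i : Fin D.p => x i) c (fun i => hcube i i.2)
      (fun i j h => hpair i j i.2 j.2 (fun h' => h (Fin.ext h')))
  have hcx : ∀ a, a < D.p → Commute c (x a) := fun a ha => by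
    rw [← hcube a ha]; exact Commute.pow_self _ _
  have hcu : u * c * u⁻¹ = c := by
    have h := hcube 1 (by omega)
    simp only [x, pow_one] at h
    rw [hc, ← conj_pow]; exact h
  have hcν : Commute c (nw D u z) := by
    unfold nw
    refine Commute.list_prod_right _ _ fun q hq => ?_
    obtain ⟨i, -, rfl⟩ := List.mem_map.mp hq
    exact hcx i i.2
  -- killing `c`
  have hgkc : g ^ D.k * c * (g ^ D.k)⁻¹ = c ^ (η : ℤ) := by
    have e : v * c * v⁻¹ = c ^ (η : ℤ) := by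
      rw [hc, ← conj_pow, h4, ← zpow_natCast, ← zpow_natCast, ← zpow_mul, ← zpow_mul, mul_comm]
    rw [hv, vw, show nw D u z * g ^ D.k * c * (nw D u z * g ^ D.k)⁻¹ =
      nw D u z * (g ^ D.k * c * (g ^ D.k)⁻¹) * (nw D u z)⁻¹ by group] at e
    have := congrArg (fun q => (nw D u z)⁻¹ * q * nw D u z) e
    simp only [(hcν.zpow_left (η : ℤ)).eq, mul_assoc, inv_mul_cancel_left, inv_mul_cancel, mul_one] at this
    simpa [mul_assoc] using this
  have hgc : g * c * g⁻¹ = c ^ ((D.eps : ℤ) * D.expo) := by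
    rw [hc, ← conj_pow, h5, conj_pow, ← zpow_natCast (z ^ _), ← zpow_mul, mul_comm, zpow_mul,
      zpow_natCast, ← conj_zpow, ← hc, hcu]
  have hgjc : ∀ j : ℕ, g ^ j * c * (g ^ j)⁻¹ = c ^ (((D.eps : ℤ) * D.expo) ^ j) := by
    intro j
    induction j with
    | zero => simp
    | succ j ih =>
      rw [pow_succ' g, show g * g ^ j * c * (g * g ^ j)⁻¹ = g * (g ^ j * c * (g ^ j)⁻¹) * g⁻¹ by group, ih,
        ← conj_zpow, hgc, ← zpow_mul, ← pow_succ']
  have hc1 : c = 1 := by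
    have e := (hgjc D.k).symm.trans hgkc
    have e' : c ^ ((((D.eps ^ D.k : ℤˣ) : ℤ)) * ((D.expo : ℤ) ^ D.k + 1)) = 1 := by
      rw [mul_add, mul_one, zpow_add, Units.val_pow_eq_pow_val, ← mul_pow, e, hη, eta, Units.val_neg,
        Units.val_pow_eq_pow_val, ← zpow_add, neg_add_cancel, zpow_zero]
    have e'' : c ^ (D.expo ^ D.k + 1) = 1 := by
      rcases Int.units_eq_one_or (D.eps ^ D.k) with h | h <;> rw [h] at e'
      · rw [Units.val_one, one_mul] at e'
        exact_mod_cast e'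
      · rw [Units.val_neg, Units.val_one, neg_mul, one_mul, zpow_neg, inv_eq_one] at e'
        exact_mod_cast e'
    have := pow_gcd_eq_one.mpr ⟨e'', hcM⟩
    rwa [hD.hcop, pow_one] at this
  have hz3 : z ^ 3 = 1 := hc1
  obtain ⟨φ, hφ, -⟩ := exists_hom (fun i : Fin D.p => x i) (fun i => (hcube i i.2).trans hc1)
    (fun i j h => (hpair i j i.2 j.2 (fun h' => h (Fin.ext h'))).trans hc1)
  have hword : ∀ L : List (Fin D.p), ∃ hL : (L.map cyc).prod ∈ alternatingGroup (Fin 2 ⊕ Fin D.p),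
      φ ⟨_, hL⟩ = (L.map fun i : Fin D.p => xw u z i).prod := by
    intro L
    induction L with
    | nil => exact ⟨one_mem _, map_one φ⟩
    | cons i L ih =>
      obtain ⟨hL, e⟩ := ih
      refine ⟨mul_mem (cyc_mem_alternatingGroup i) hL, ?_⟩
      simp only [List.map_cons, List.prod_cons]
      show φ (⟨cyc i, cyc_mem_alternatingGroup i⟩ * ⟨_, hL⟩) = _
      rw [map_mul, hφ, e, hxw]
  have hφ0 : φ ⟨cyc ⟨0, hp0⟩, cyc_mem_alternatingGroup _⟩ = z := (hφ _).trans hx0
  have hνz : nw D u z * z * (nw D u z)⁻¹ = z⁻¹ := by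
    obtain ⟨hL, e⟩ := hword D.wν
    rw [nw, ← e, ← hφ0, ← map_inv, ← map_mul, ← map_mul, ← map_inv]
    exact congrArg φ (Subtype.ext hD.hν)
  have hπz : ∀ i, i + 2 ≤ D.p → piw D u z ^ i * z * (piw D u z ^ i)⁻¹ = x i ^ (((-1) ^ i : ℤˣ) : ℤ) := by
    intro i hi
    obtain ⟨hL, e⟩ := hword D.wπ
    rw [piw, ← e, ← hφ0, ← map_pow, ← map_inv, ← map_mul, ← map_mul,
      ← show φ ⟨cyc ⟨i, by omega⟩, cyc_mem_alternatingGroup _⟩ = x i from hφ _, ← map_zpow]
    refine congrArg φ (Subtype.ext ?_)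
    simpa using hD.hπ i hi
  have hgkz : g ^ D.k * z * (g ^ D.k)⁻¹ = z ^ ((D.eps ^ D.k : ℤˣ) : ℤ) := by
    have e := h4
    rw [hv, vw, show nw D u z * g ^ D.k * z * (nw D u z * g ^ D.k)⁻¹ =
      nw D u z * (g ^ D.k * z * (g ^ D.k)⁻¹) * (nw D u z)⁻¹ by group] at e
    have e2 : nw D u z * z ^ ((D.eps ^ D.k : ℤˣ) : ℤ) * (nw D u z)⁻¹ = z ^ (η : ℤ) := by
      rw [← conj_zpow, hνz, inv_zpow, ← zpow_neg, hη, eta, Units.val_neg]
    exact mul_left_cancel (mul_right_cancel (e.trans e2.symm))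
  have hzE : z ^ ((D.eps : ℤ) * D.expo) = z ^ (D.eps : ℤ) := by
    rw [mul_comm, zpow_mul, zpow_natCast, pow_eq_pow_mod _ hz3, hD.hexpo, pow_one]
  rw [hzE] at h5
  have hgx : ∀ i, i + 2 ≤ D.p → g * x i * g⁻¹ = x (i + 1) ^ (D.eps : ℤ) := by
    intro i hi
    set a : ℤˣ := (-1) ^ i with ha
    have hg1 : g * (x i ^ (a : ℤ)) * g⁻¹ = (x (i + 1) ^ (D.eps : ℤ)) ^ (a : ℤ) := by
      rw [← hπz i hi, show g * (piw D u z ^ i * z * (piw D u z ^ i)⁻¹) * g⁻¹ =
        (g * piw D u z * g⁻¹) ^ i * (g * z * g⁻¹) * ((g * piw D u z * g⁻¹) ^ i)⁻¹ by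
          rw [conj_pow]; group, h6, h5, conj_pow,
        show u * piw D u z ^ i * u⁻¹ * (u * z ^ (D.eps : ℤ) * u⁻¹) * (u * piw D u z ^ i * u⁻¹)⁻¹ =
          u * (piw D u z ^ i * z ^ (D.eps : ℤ) * (piw D u z ^ i)⁻¹) * u⁻¹ by group,
        ← conj_zpow (a := piw D u z ^ i), hπz i hi, ← zpow_mul, mul_comm, zpow_mul, ← conj_zpow,
        ← conj_zpow, add_comm i 1, hxadd 1 i, pow_one]
    rw [← conj_zpow (a := g)] at hg1
    rcases Int.units_eq_one_or a with h | h <;> rw [h] at hg1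
    · simpa using hg1
    · simp only [Units.val_neg, Units.val_one, zpow_neg, zpow_one, inv_inj] at hg1
      exact hg1
  -- the `y i`
  let y : ℕ → G := fun i => g ^ i * z ^ ((D.eps ^ i : ℤˣ) : ℤ) * (g ^ i)⁻¹
  have hysucc : ∀ i, y (i + 1) = g * y i ^ (D.eps : ℤ) * g⁻¹ := fun i => by
    simp only [y]
    rw [conj_zpow, ← zpow_mul, ← Units.val_mul, ← pow_succ, pow_succ' g]
    group
  have hgy : ∀ i, g * y i * g⁻¹ = y (i + 1) ^ (D.eps : ℤ) := fun i => by
    rw [hysucc, conj_zpow, ← zpow_mul, ← Units.val_mul, Int.units_mul_self, Units.val_one, zpow_one]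
  have hyx : ∀ i, i + 1 ≤ D.p → y i = x i := by
    intro i hi
    induction i with
    | zero => simp [y, x]
    | succ i ih =>
      rw [hysucc, ih (by omega), ← conj_zpow, hgx i (by omega), ← zpow_mul, ← Units.val_mul,
        Int.units_mul_self, Units.val_one, zpow_one]
  have hyadd : ∀ i d, y (i + d) = g ^ i * y d ^ ((D.eps ^ i : ℤˣ) : ℤ) * (g ^ i)⁻¹ := fun i d => by
    simp only [y]
    rw [conj_zpow, ← zpow_mul, ← Units.val_mul, ← pow_add, add_comm d i, pow_add g]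
    group
  have hyk0 : y D.k = z := by
    simp only [y]
    rw [← conj_zpow (a := g ^ D.k), hgkz, ← zpow_mul, ← Units.val_mul, Int.units_mul_self, Units.val_one,
      zpow_one]
  have hyk : ∀ i, y (i + D.k) = y i := fun i => by
    rw [hyadd, hyk0]
  have hymod : ∀ i, y i = y (i % D.k) := by
    intro i
    induction i using Nat.strong_induction_on with
    | _ i ih =>
      rcases Nat.lt_or_ge i D.k with h | h
      · rw [Nat.mod_eq_of_lt h]
      · obtain ⟨d, rfl⟩ : ∃ d, i = d + D.k := ⟨i - D.k, by omega⟩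
        rw [hyk, ih d (by omega), Nat.add_mod_right]
  have hy3 : ∀ i, y i ^ 3 = 1 := fun i => by
    simp only [y]
    have : (z ^ ((D.eps ^ i : ℤˣ) : ℤ)) ^ 3 = 1 := by
      rcases Int.units_eq_one_or (D.eps ^ i) with h | h <;> simp [h, hz3]
    rw [conj_pow, this, mul_one, mul_inv_cancel]
  have hy2 : ∀ d i, 0 < d → d + 1 ≤ D.p → (y i * y (i + d)) ^ 2 = 1 := by
    intro d i hd hdp
    have e : (z * x d) ^ 2 = 1 := ((hbase d hd (by omega)).1).symm.trans hc1
    rw [hyadd i d, hyx d hdp]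
    have e' := sq_zpow_unit (D.eps ^ i) e
    rw [show y i * (g ^ i * x d ^ ((D.eps ^ i : ℤˣ) : ℤ) * (g ^ i)⁻¹) =
      g ^ i * (z ^ ((D.eps ^ i : ℤˣ) : ℤ) * x d ^ ((D.eps ^ i : ℤˣ) : ℤ)) * (g ^ i)⁻¹ by simp only [y]; group,
      conj_pow, e', mul_one, mul_inv_cancel]
  have hy22 : ∀ i j : Fin D.k, i ≠ j → (y i * y j) ^ 2 = 1 := by
    have main : ∀ i j : Fin D.k, (i : ℕ) < j → (y i * y j) ^ 2 = 1 := by
      intro i j hij
      by_cases hd : (j : ℕ) - i + 1 ≤ D.p
      · have := hy2 (j - i) i (by omega) hd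
        rwa [show (i : ℕ) + (j - i) = j by omega] at this
      · have h := hy2 (D.k - (j - i)) j (by omega) (by have := hD.hkp; omega)
        rw [show (j : ℕ) + (D.k - (j - i)) = i + D.k by omega, hyk] at h
        exact conj_comm_sq h
    intro i j hij
    rcases lt_or_gt_of_ne (fun h : (i : ℕ) = j => hij (Fin.ext h)) with h | h
    · exact main i j h
    · exact conj_comm_sq (main j i h)
  obtain ⟨Φ, -, hΦr⟩ := exists_hom (fun i : Fin D.k => y i) (fun i => hy3 i) hy22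
  set N := Φ.range with hN
  have hyN : ∀ i, y i ∈ N := fun i => by
    rw [hΦr, hymod]
    exact Subgroup.subset_closure ⟨⟨i % D.k, Nat.mod_lt _ hk0⟩, rfl⟩
  haveI : Finite N := Finite.of_surjective Φ.rangeRestrict Φ.rangeRestrict_surjective
  have hgN : g ∈ Subgroup.normalizer (N : Set G) := by
    rw [Subgroup.mem_normalizer_iff_map_conj_eq]
    refine Subgroup.eq_of_le_of_card_ge ?_ (Subgroup.card_map_of_injective (MulAut.conj g).injective).ge
    conv_lhs => rw [hΦr, MonoidHom.map_closure]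
    rw [Subgroup.closure_le]
    rintro _ ⟨_, ⟨i, rfl⟩, rfl⟩
    show g * y i * g⁻¹ ∈ N
    rw [hgy]
    exact zpow_mem (hyN _) _
  have hzN : z ∈ N := by simpa [y] using hyN 0
  have hωN : omw D z g ∈ N := list_prod_mem fun q hq => by
    obtain ⟨i, -, rfl⟩ := List.mem_map.mp hq
    exact hyN i
  have huN : u ∈ Subgroup.normalizer (N : Set G) := by
    rw [eq_inv_mul_of_mul_eq h7]
    exact mul_mem (inv_mem (pow_mem hgN _)) (Subgroup.le_normalizer hωN)
  haveI hNn : N.Normal := by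
    rw [← Subgroup.normalizer_eq_top_iff, eq_top_iff, ← hgen, Subgroup.closure_le]
    rintro q (rfl | rfl | rfl)
    · exact huN
    · exact Subgroup.le_normalizer hzN
    · exact hgN
  let q := QuotientGroup.mk' N
  have hq1 : ∀ a ∈ N, q a = 1 := fun a ha => (QuotientGroup.eq_one_iff a).mpr ha
  have hqu : q u = (q g ^ D.e)⁻¹ := by
    rw [eq_inv_mul_of_mul_eq h7, map_mul, hq1 _ hωN, mul_one, map_inv, map_pow]
  have hqv : q v = q g ^ D.k := by
    have : nw D u z ∈ N := list_prod_mem fun w hw => by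
      obtain ⟨i, -, rfl⟩ := List.mem_map.mp hw
      exact hNn.conj_mem z hzN _
    rw [hv, vw, map_mul, hq1 _ this, one_mul, map_pow]
  have hqu1 : q u = 1 := by
    have e := congrArg q hvu
    rw [map_mul, map_mul, map_inv, map_pow, hqv] at e
    have hcom : Commute (q g ^ D.k) (q u) := by rw [hqu]; exact ((Commute.refl _).pow_pow _ _).inv_right
    rw [hcom.eq, mul_assoc, mul_inv_cancel, mul_one] at e
    have hup' : q u ^ D.p = 1 := by rw [← map_pow, hup, map_one]
    rcases (Nat.dvd_prime hp).mp (orderOf_dvd_of_pow_eq_one hup') with h | h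
    · exact orderOf_eq_one_iff.mp h
    · exfalso
      have hr1 : D.r % D.p = 1 := by
        have hmod : D.r ≡ 1 [MOD orderOf (q u)] := pow_eq_pow_iff_modEq.mp (by rw [pow_one]; exact e.symm)
        rw [h, Nat.ModEq, Nat.mod_eq_of_lt hp.one_lt] at hmod
        exact hmod
      obtain ⟨j, hj⟩ := hD.hr 2 (by norm_num) (by omega)
      rw [Nat.pow_mod, hr1, one_pow, Nat.mod_eq_of_lt hp.one_lt] at hj
      omega
  have hqg : q g ^ D.e = 1 := inv_eq_one.mp (hqu.symm.trans hqu1)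
  have htop : Subgroup.zpowers (q g) = ⊤ := by
    rw [eq_top_iff, ← Subgroup.map_top_of_surjective q (QuotientGroup.mk'_surjective N), ← hgen,
      MonoidHom.map_closure, Subgroup.closure_le]
    rintro _ ⟨w, (rfl | rfl | rfl), rfl⟩
    · rw [hqu1]; exact one_mem _
    · rw [hq1 _ hzN]; exact one_mem _
    · exact Subgroup.mem_zpowers _
  have hfo : IsOfFinOrder (q g) := isOfFinOrder_iff_pow_eq_one.mpr ⟨D.e, hD.he, hqg⟩
  haveI : Finite (Subgroup.zpowers (q g)) := Finite.of_equiv _ (finEquivZPowers hfo)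
  haveI : Finite (G ⧸ N) := by
    refine Finite.of_surjective (fun w : Subgroup.zpowers (q g) => (w : G ⧸ N)) fun w => ?_
    exact ⟨⟨w, htop ▸ Subgroup.mem_top w⟩, rfl⟩
  have hcq : Nat.card (G ⧸ N) ≤ D.e := by
    rw [← Subgroup.card_top (G := G ⧸ N), ← htop, Nat.card_zpowers]
    exact orderOf_le_of_pow_eq_one hD.he hqg
  haveI : Finite G := Finite.of_equiv _ (Subgroup.groupEquivQuotientProdSubgroup (s := N)).symm
  refine ⟨inferInstance, ?_⟩
  rw [Subgroup.card_eq_card_quotient_mul_card_subgroup N]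
  have hA : 2 * Nat.card ↥(alternatingGroup (Fin 2 ⊕ Fin D.k)) = (D.k + 2).factorial := by
    haveI : Nontrivial (Fin 2 ⊕ Fin D.k) := ⟨Sum.inl 0, Sum.inl 1, by simp⟩
    rw [two_mul_nat_card_alternatingGroup, Nat.card_eq_fintype_card, Fintype.card_perm, Fintype.card_sum,
      Fintype.card_fin, Fintype.card_fin, add_comm]
  calc 2 * (Nat.card (G ⧸ N) * Nat.card N)
      ≤ 2 * (D.e * Nat.card ↥(alternatingGroup (Fin 2 ⊕ Fin D.k))) := by
        refine Nat.mul_le_mul_left 2 (Nat.mul_le_mul hcq ?_)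
        exact Nat.card_le_card_of_surjective _ Φ.rangeRestrict_surjective
    _ = D.e * (D.k + 2).factorial := by rw [← hA]; ring

end Cfsg.Agent.AltPresent
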