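import Cfsg.Agent.Lib.AltPresent.Main
import Mathlib.GroupTheory.Perm.ViaEmbedding

/-!
The permutations realising the presentation, and the arithmetic parameters.
-/

set_option autoImplicit false

namespace Cfsg.Agent.AltPresent

open Equiv Equiv.Perm

section Embed

variable {p k : ℕ} (hpk : p ≤ k)

/-- Relabelling: `Fin 2 ⊕ Fin p` inside `Fin 2 ⊕ Fin k`. -/
def relabel : Fin 2 ⊕ Fin p ↪ Fin 2 ⊕ Fin k :=
  (Function.Embedding.refl _).sumMap (Fin.castLEEmb hpk)

noncomputable def embP : Perm (Fin 2 ⊕ Fin p) →* Perm (Fin 2 ⊕ Fin k) :=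
  Equiv.Perm.viaEmbeddingHom (relabel hpk)

noncomputable def extP : Perm (Fin p) →* Perm (Fin k) :=
  Equiv.Perm.viaEmbeddingHom (Fin.castLEEmb hpk)

theorem extP_apply (ρ : Perm (Fin p)) (i : Fin p) :
    extP hpk ρ (Fin.castLE hpk i) = Fin.castLE hpk (ρ i) :=
  Equiv.Perm.viaEmbedding_apply ρ (Fin.castLEEmb hpk) i

theorem extP_apply_of_le (ρ : Perm (Fin p)) (i : Fin k) (hi : p ≤ (i : ℕ)) : extP hpk ρ i = i := by
  refine Equiv.Perm.viaEmbedding_apply_of_notMem ρ (Fin.castLEEmb hpk) i ?_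
  rintro ⟨j, hj⟩
  have := congrArg Fin.val hj
  simp at this
  have := j.isLt
  omega

theorem embP_pairPerm (τ : Perm (Fin 2)) (ρ : Perm (Fin p)) :
    embP hpk (pairPerm τ ρ) = pairPerm τ (extP hpk ρ) := by
  ext1 x
  rcases x with a | b
  · show embP hpk (pairPerm τ ρ) (relabel hpk (Sum.inl a)) = _
    rw [embP, Equiv.Perm.viaEmbeddingHom_apply, Equiv.Perm.viaEmbedding_apply]
    rfl
  · by_cases hb : (b : ℕ) < p
    · obtain ⟨j, rfl⟩ : ∃ j : Fin p, Fin.castLE hpk j = b := ⟨⟨b, hb⟩, rfl⟩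
      show embP hpk (pairPerm τ ρ) (relabel hpk (Sum.inr j)) = _
      rw [embP, Equiv.Perm.viaEmbeddingHom_apply, Equiv.Perm.viaEmbedding_apply]
      show relabel hpk (Sum.inr (ρ j)) = Sum.inr _
      rw [extP_apply]; rfl
    · rw [embP, Equiv.Perm.viaEmbeddingHom_apply, Equiv.Perm.viaEmbedding_apply_of_notMem]
      · exact congrArg Sum.inr (extP_apply_of_le hpk ρ b (by omega)).symm
      · rintro ⟨y, hy⟩
        rcases y with a | j
        · simp [relabel] at hy
        · simp [relabel] at hy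
          have := congrArg Fin.val hy
          simp at this
          have := j.isLt
          omega

theorem embP_swap (x y : Fin 2 ⊕ Fin p) :
    embP hpk (swap x y) = swap (relabel hpk x) (relabel hpk y) := by
  ext1 z
  by_cases hz : z ∈ Set.range (relabel hpk)
  · obtain ⟨w, rfl⟩ := hz
    rw [embP, Equiv.Perm.viaEmbeddingHom_apply, Equiv.Perm.viaEmbedding_apply,
      (relabel hpk).injective.swap_apply]
  · rw [embP, Equiv.Perm.viaEmbeddingHom_apply, Equiv.Perm.viaEmbedding_apply_of_notMem _ _ _ hz,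
      swap_apply_of_ne_of_ne (fun h => hz ⟨x, h.symm⟩) (fun h => hz ⟨y, h.symm⟩)]

theorem embP_cyc (i : Fin p) : embP hpk (cyc i) = cyc (Fin.castLE hpk i) := by
  rw [cyc, map_mul, embP_swap, embP_swap]; rfl

theorem sign_embP (σ : Perm (Fin 2 ⊕ Fin p)) : sign (embP hpk σ) = sign σ :=
  by
  induction σ using Equiv.Perm.swap_induction_on with
  | one => simp
  | swap_mul f x y hxy ih =>
    rw [map_mul, Perm.sign_mul, Perm.sign_mul, ih, embP_swap,
      sign_swap ((relabel hpk).injective.ne hxy), sign_swap hxy]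

end Embed

theorem finRotate_pow_val {n : ℕ} (i : ℕ) (a : Fin n) :
    ((((finRotate n) ^ i) a : Fin n) : ℕ) = ((a : ℕ) + i) % n := by
  induction i with
  | zero => simp [Nat.mod_eq_of_lt a.isLt]
  | succ i ih =>
    rw [pow_succ', Perm.mul_apply]
    obtain ⟨m, rfl⟩ : ∃ m, n = m + 1 := ⟨n - 1, by have := a.isLt; omega⟩
    rw [finRotate_succ_apply, Fin.val_add, ih, Fin.val_one', ← Nat.add_mod, add_assoc]

theorem finRotate_val {n : ℕ} (a : Fin n) : ((finRotate n a : Fin n) : ℕ) = ((a : ℕ) + 1) % n := by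
  simpa using finRotate_pow_val 1 a

/-- Conjugates of a permutation by maps agreeing on the points it moves. -/
theorem conj_eq_of_agree {α : Type*} (f h π : Perm α) (hag : ∀ x, π x ≠ x → f x = h x) :
    f * π * f⁻¹ = h * π * h⁻¹ := by
  ext y
  simp only [Perm.mul_apply]
  by_cases hx : π (f⁻¹ y) = f⁻¹ y
  · by_cases hx' : π (h⁻¹ y) = h⁻¹ y
    · rw [hx, hx']; simp
    · exfalso
      have e1 : f (h⁻¹ y) = y := by rw [hag _ hx']; simp
      have e2 : f⁻¹ y = h⁻¹ y := by rw [Equiv.Perm.inv_eq_iff_eq]; exact e1.symm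
      exact hx' (by rw [← e2]; exact hx)
  · have e1 : h (f⁻¹ y) = y := by rw [← hag _ hx]; simp
    have e2 : h⁻¹ y = f⁻¹ y := by rw [Equiv.Perm.inv_eq_iff_eq]; exact e1.symm
    rw [e2]
    exact hag _ (fun h' => hx (π.injective h'))

/-- The permutation of two letters with a given sign. -/
def tauOf (ε : ℤˣ) : Perm (Fin 2) := if ε = 1 then 1 else swap 0 1

theorem sign_tauOf (ε : ℤˣ) : sign (tauOf ε) = ε := by
  rcases Int.units_eq_one_or ε with rfl | rfl
  · simp [tauOf]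
  · have h : ((-1 : ℤˣ) = 1) = False := by simp
    simp [tauOf, h]

theorem tau_mul_conj (τ : Perm (Fin 2)) : τ * swap 0 1 * τ⁻¹ = swap 0 1 := by
  revert τ; decide

theorem tau_pow_even (τ : Perm (Fin 2)) {n : ℕ} (hn : Even n) : τ ^ n = 1 := by
  obtain ⟨m, rfl⟩ := hn
  have h : τ * τ = 1 := by revert τ; decide
  rw [← two_mul, pow_mul, pow_two, h, one_pow]

/-- Multiplication by a primitive root. -/
theorem exists_root (p : ℕ) (hp : p.Prime) (hp3 : 3 ≤ p) :
    ∃ r s : ℕ, (∀ i, 0 < i → i < p → ∃ j, r ^ j % p = i) ∧ r * s % p = (s + 1) % p := by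
  haveI := Fact.mk hp
  obtain ⟨γ, hγ⟩ := IsCyclic.exists_monoid_generator (α := (ZMod p)ˣ)
  have hreach : ∀ i, 0 < i → i < p → ∃ j, (γ : ZMod p).val ^ j % p = i := by
    intro i hi hip
    have hne : (i : ZMod p) ≠ 0 := by
      rw [Ne, ZMod.natCast_eq_zero_iff]
      exact fun hd => absurd (Nat.le_of_dvd hi hd) (by omega)
    obtain ⟨j, hj⟩ := hγ (Units.mk0 _ hne)
    refine ⟨j, ?_⟩
    have e : (γ : ZMod p) ^ j = (i : ZMod p) := by
      simpa using congrArg Units.val hj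
    have h2 : (((γ : ZMod p).val ^ j : ℕ) : ZMod p) = (i : ℕ) := by
      push_cast; rw [ZMod.natCast_rightInverse (γ : ZMod p)]; exact e
    have h3 := congrArg ZMod.val h2
    rwa [ZMod.val_natCast, ZMod.val_natCast, Nat.mod_eq_of_lt hip] at h3
  have hγ1 : (γ : ZMod p) ≠ 1 := by
    intro h1
    obtain ⟨j, hj⟩ := hreach 2 (by norm_num) (by omega)
    rw [h1, ZMod.val_one, one_pow, Nat.mod_eq_of_lt hp.one_lt] at hj
    omega
  refine ⟨(γ : ZMod p).val, (((γ : ZMod p) - 1)⁻¹).val, hreach, ?_⟩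
  have hne : (γ : ZMod p) - 1 ≠ 0 := sub_ne_zero.mpr hγ1
  have h2 : (((γ : ZMod p).val * (((γ : ZMod p) - 1)⁻¹).val : ℕ) : ZMod p) =
      (((((γ : ZMod p) - 1)⁻¹).val + 1 : ℕ) : ZMod p) := by
    push_cast
    rw [ZMod.natCast_rightInverse (γ : ZMod p), ZMod.natCast_rightInverse (((γ : ZMod p) - 1)⁻¹)]
    field_simp
    ring
  have h3 := congrArg ZMod.val h2
  rwa [ZMod.val_natCast, ZMod.val_natCast] at h3

/-- The exponent used to kill the central cube. -/
theorem exists_expo (M k : ℕ) (hM : 0 < M) (hk : 0 < k) :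
    ∃ E : ℕ, E % 3 = 1 ∧ (E ^ k + 1).Coprime M := by
  set b := ordCompl[3] M with hb
  have h3 : ¬ 3 ∣ b := Nat.not_dvd_ordCompl Nat.prime_three hM.ne'
  have hb3 : b ^ 2 % 3 = 1 := by
    have : b % 3 = 1 ∨ b % 3 = 2 := by omega
    rcases this with h | h <;> simp [Nat.pow_mod, h]
  refine ⟨b ^ 2, hb3, Nat.coprime_of_dvd fun q hq hq1 hq2 => ?_⟩
  by_cases hq3 : q = 3
  · subst hq3
    have : ((b ^ 2) ^ k + 1) % 3 = 2 := by
      rw [Nat.add_mod, Nat.pow_mod, hb3, one_pow]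
      norm_num
    omega
  · have hqb : q ∣ b := by
      refine (Nat.Coprime.dvd_of_dvd_mul_left ?_ (by rw [Nat.ordProj_mul_ordCompl_eq_self]; exact hq2) :
        q ∣ ordCompl[3] M)
      exact (Nat.coprime_primes hq Nat.prime_three).mpr hq3 |>.pow_right _
    have hqp : q ∣ (b ^ 2) ^ k := (hqb.trans (dvd_pow_self b two_ne_zero)).trans (dvd_pow_self _ hk.ne')
    have h1 : q ∣ 1 := (Nat.dvd_add_right hqp).mp hq1
    exact hq.one_lt.ne' (Nat.dvd_one.mp h1)

/-- The prime between `k / 2` and `k`. -/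
theorem exists_prime (k : ℕ) (hk : 3 ≤ k) : ∃ p, p.Prime ∧ 3 ≤ p ∧ p ≤ k ∧ k + 1 ≤ 2 * p := by
  rcases Nat.lt_or_ge k 4 with h | h
  · exact ⟨3, Nat.prime_three, le_rfl, hk, by omega⟩
  · obtain ⟨p, hp, h1, h2⟩ := Nat.exists_prime_lt_and_le_two_mul (k / 2) (by omega)
    exact ⟨p, hp, by omega, by omega, by omega⟩

end Cfsg.Agent.AltPresent
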