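import Cfsg.Agent.Lib.AltPresent.Perms
import Cfsg.Agent.Lib.AltPresent.Tietze

/-!
Three generators and seven relations for `A_n` and `S_n`, `n ≥ 5`.
-/

set_option autoImplicit false

namespace Cfsg.Agent.AltPresent

open Equiv Equiv.Perm

theorem finRotate_pow_self (n : ℕ) : (finRotate n) ^ n = 1 := by
  ext a
  rw [finRotate_pow_val, Nat.add_mod_right, Nat.mod_eq_of_lt a.isLt, Perm.one_apply]

theorem sign_finRotate' {n : ℕ} (hn : 0 < n) : sign (finRotate n) = (-1) ^ (n - 1) := by
  obtain ⟨m, rfl⟩ : ∃ m, n = m + 1 := ⟨n - 1, by omega⟩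
  simpa using sign_finRotate m

/-- Seven relations on three generators define `A_n` (`σ = 1`) and `S_n` (`σ = -1`); the last two
generators generate. -/
theorem exists_presentation (k : ℕ) (hk : 3 ≤ k) (σ : ℤˣ) :
    ∃ (T : Subgroup (Perm (Fin 2 ⊕ Fin k))),
      (σ = 1 → T = alternatingGroup (Fin 2 ⊕ Fin k)) ∧ (σ = -1 → T = ⊤) ∧
      ∃ (rels : Finset (FreeGroup (Fin 3))), rels.card ≤ 7 ∧
      ∃ (e : PresentedGroup (↑rels : Set (FreeGroup (Fin 3))) ≃* T),
        Subgroup.closure ({e (PresentedGroup.of 1), e (PresentedGroup.of 2)} : Set T) = ⊤ := by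
  classical
  obtain ⟨p, hp, hp3, hpk, hkp⟩ := exists_prime k hk
  obtain ⟨r, s, hr, hrs⟩ := exists_root p hp hp3
  obtain ⟨E, hE3, hEc⟩ := exists_expo (p + 2).factorial k (Nat.factorial_pos _) (by omega)
  have hp0 := hp.pos
  haveI : NeZero p := ⟨hp0.ne'⟩
  haveI : NeZero k := ⟨by omega⟩
  haveI : Nonempty (Fin p) := ⟨⟨0, hp0⟩⟩
  haveI : Nonempty (Fin k) := ⟨⟨0, by omega⟩⟩
  set ε : ℤˣ := σ * (-1) ^ (k - 1) with hε
  set τ := tauOf ε with hτ
  have hsτ : sign τ = ε := sign_tauOf ε
  -- the permutations of `Fin p`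
  have hrp : r.Coprime p := (hp.coprime_iff_not_dvd.mpr fun h => by
    obtain ⟨j, hj⟩ := hr 2 (by norm_num) (by omega)
    rcases Nat.eq_zero_or_pos j with rfl | hj0
    · rw [pow_zero, Nat.mod_eq_of_lt hp.one_lt] at hj; omega
    · rw [Nat.mod_eq_zero_of_dvd] at hj
      · omega
      · exact h.trans (dvd_pow_self r hj0.ne')).symm
  have hinj : Function.Injective fun i : Fin p => (⟨r * i % p, Nat.mod_lt _ hp0⟩ : Fin p) := by
    intro a b h
    have h' : r * a ≡ r * b [MOD p] := congrArg Fin.val h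
    exact Fin.ext (Nat.ModEq.eq_of_lt_of_lt (Nat.ModEq.cancel_left_of_coprime hrp.symm h') a.isLt b.isLt)
  let μ : Perm (Fin p) := Equiv.ofBijective _ hinj.bijective_of_finite
  have hμv : ∀ i : Fin p, ((μ i : Fin p) : ℕ) = r * i % p := fun i => rfl
  have hμpow : ∀ (j : ℕ) (i : Fin p), (((μ ^ j) i : Fin p) : ℕ) = r ^ j * i % p := by
    intro j
    induction j with
    | zero => intro i; simp [Nat.mod_eq_of_lt i.isLt]
    | succ j ih =>
      intro i
      rw [pow_succ', Perm.mul_apply, hμv, ih, Nat.mul_mod, Nat.mod_mod, ← Nat.mul_mod, pow_succ', mul_assoc]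
  have hμ0 : μ ⟨0, hp0⟩ = ⟨0, hp0⟩ := Fin.ext (by simp [hμv])
  have hμsupp : μ.support = Finset.univ.erase ⟨0, hp0⟩ := by
    ext i
    simp only [Perm.mem_support, Finset.mem_erase, Finset.mem_univ, and_true]
    constructor
    · rintro h rfl; exact h hμ0
    · intro hi h
      have hi0 : 0 < (i : ℕ) := Nat.pos_of_ne_zero fun h0 => hi (Fin.ext h0)
      have hall : ∀ j, ((μ ^ j) i) = i := fun j => by
        induction j with
        | zero => rfl
        | succ j ih => rw [pow_succ, Perm.mul_apply, h, ih]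
      have h1 : r * (i : ℕ) % p = 1 * (i : ℕ) % p := by
        rw [one_mul, Nat.mod_eq_of_lt i.isLt, ← hμv, h]
      have h2 : r ≡ 1 [MOD p] := Nat.ModEq.cancel_right_of_coprime
        (hp.coprime_iff_not_dvd.mpr fun hd => absurd (Nat.le_of_dvd hi0 hd) (by have := i.isLt; omega)) h1
      obtain ⟨j, hj⟩ := hr 2 (by norm_num) (by omega)
      have h3 : r ^ j % p = 1 := by rw [Nat.pow_mod, h2, ← Nat.pow_mod, one_pow, Nat.mod_eq_of_lt hp.one_lt]
      omega
  have hμcyc : μ.IsCycle := by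
    have h1 : (⟨1, hp.one_lt⟩ : Fin p) ∈ μ.support := by rw [hμsupp]; simp
    refine ⟨⟨1, hp.one_lt⟩, Perm.mem_support.mp h1, fun y hy => ?_⟩
    have hy' : y ∈ μ.support := Perm.mem_support.mpr hy
    rw [hμsupp, Finset.mem_erase] at hy'
    obtain ⟨j, hj⟩ := hr y (Nat.pos_of_ne_zero fun h0 => hy'.1 (Fin.ext h0)) y.isLt
    exact ⟨j, Fin.ext (by rw [zpow_natCast, hμpow]; simpa using hj)⟩
  have hμcard : μ.support.card = p - 1 := by
    rw [hμsupp, Finset.card_erase_of_mem (Finset.mem_univ _), Finset.card_univ, Fintype.card_fin]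
  have hpodd : Even (p - 1) := hp.even_sub_one (by omega)
  have hμsign : sign μ = -1 := by rw [hμcyc.sign, hμcard, hpodd.neg_one_pow]
  have hμord : μ ^ (p - 1) = 1 := by rw [← hμcard, ← hμcyc.orderOf, pow_orderOf_eq_one]
  have hrotp : sign (finRotate p) = 1 := by rw [sign_finRotate' hp0, hpodd.neg_one_pow]
  let ρπ : Perm (Fin p) := swap ⟨p - 1, by omega⟩ ⟨0, hp0⟩ * finRotate p
  have hρπsign : sign ρπ = -1 := by
    simp only [ρπ]
    rw [Perm.sign_mul, hrotp, sign_swap (by simp only [ne_eq, Fin.mk.injEq]; omega)]; rfl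
  have hρπ : ∀ i : Fin p, (i : ℕ) + 3 ≤ p → ((ρπ i : Fin p) : ℕ) = (i : ℕ) + 1 := by
    intro i hi
    have hv' : ((finRotate p i : Fin p) : ℕ) = i + 1 := by rw [finRotate_val, Nat.mod_eq_of_lt (by omega)]
    simp only [ρπ, Perm.mul_apply]
    rw [swap_apply_of_ne_of_ne]
    · exact hv'
    · intro h; rw [h] at hv'; simp at hv'; omega
    · intro h; rw [h] at hv'; simp at hv'
  -- the six permutations of `Fin 2 ⊕ Fin k`
  set gρ := finRotate k with hgρ
  set g0 : Perm (Fin 2 ⊕ Fin k) := pairPerm τ gρ with hg0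
  set u0 : Perm (Fin 2 ⊕ Fin k) := embP hpk (pairPerm 1 (finRotate p)) with hu0
  set z0 : Perm (Fin 2 ⊕ Fin k) := cyc ⟨0, by omega⟩ with hz0
  have hz0e : z0 = embP hpk (cyc ⟨0, hp0⟩) := by rw [embP_cyc]; rfl
  set e : ℕ := if σ = 1 then 1 else 2 with he
  have hsg0 : sign g0 = σ := by
    rw [hg0, sign_pairPerm, hsτ, hgρ, sign_finRotate' (by omega), hε, mul_assoc, ← mul_pow,
      Int.units_mul_self, one_pow, mul_one]
  have hω : sign (g0 ^ e * u0) = 1 := by
    rw [Perm.sign_mul, map_pow, hsg0, hu0, sign_embP, sign_pairPerm, map_one, one_mul, hrotp, mul_one, he]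
    rcases Int.units_eq_one_or σ with rfl | rfl <;> simp
  obtain ⟨Lω, hLω⟩ := exists_word hω
  obtain ⟨Lν, hLν⟩ := exists_word (σ := pairPerm (swap 0 1) μ)
    (by rw [sign_pairPerm, hμsign, sign_swap (by decide)]; rfl)
  obtain ⟨Lπ, hLπ⟩ := exists_word (σ := pairPerm (swap 0 1) ρπ)
    (by rw [sign_pairPerm, hρπsign, sign_swap (by decide)]; rfl)
  let D : Dat := ⟨k, p, r, s, E, e, ε, Lν, Lπ, Lω⟩
  have hD : D.Good := by
    refine ⟨hp, hp3, hpk, hkp, hr, hrs, hE3, hEc, by simp only [D, he]; split <;> omega, ?_, ?_⟩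
    · show (Lν.map cyc).prod * _ * _ = _
      rw [hLν, pairPerm_conj_cyc, hμ0, sign_swap (by decide), Units.val_neg, Units.val_one, zpow_neg, zpow_one]
    · intro i hi
      show (Lπ.map cyc).prod ^ i * _ * _ = _
      have hit : ∀ j, j + 2 ≤ p + 0 → ∀ h : j < p, (ρπ ^ j) ⟨0, hp0⟩ = ⟨j, h⟩ := by
        intro j
        induction j with
        | zero => intro _ _; rfl
        | succ j ih =>
          intro h1 h2
          rw [pow_succ', Perm.mul_apply, ih (by omega) (by omega)]
          exact Fin.ext (hρπ ⟨j, by omega⟩ (by simp only; omega))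
      have hi2 : i + 2 ≤ p := hi
      rw [hLπ, pairPerm_pow, pairPerm_conj_cyc, hit i (by omega) (by omega), map_pow,
        sign_swap (by decide)]
  -- evaluation of the words
  have hxw : ∀ i (hi : i < p), xw u0 z0 i = embP hpk (cyc ⟨i, hi⟩) := by
    intro i hi
    rw [xw, hu0, hz0e, ← map_pow, ← map_inv, ← map_mul, ← map_mul, pairPerm_pow, pairPerm_conj_cyc,
      one_pow, map_one, Units.val_one, zpow_one]
    congr 2
    exact Fin.ext (by rw [finRotate_pow_val]; simp [Nat.mod_eq_of_lt hi])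
  have hword : ∀ L : List (Fin p), (L.map fun i : Fin p => xw u0 z0 i).prod = embP hpk (L.map cyc).prod := by
    intro L
    induction L with
    | nil => simp
    | cons i L ih => simp [ih, hxw i i.isLt, map_mul]
  have hnw : nw D u0 z0 = pairPerm (swap 0 1) (extP hpk μ) := by
    show (Lν.map fun i : Fin p => xw u0 z0 i).prod = _
    rw [hword, hLν, embP_pairPerm]
  have hpw : piw D u0 z0 = pairPerm (swap 0 1) (extP hpk ρπ) := by
    show (Lπ.map fun i : Fin p => xw u0 z0 i).prod = _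
    rw [hword, hLπ, embP_pairPerm]
  have hgk : g0 ^ k = pairPerm (τ ^ k) 1 := by rw [hg0, pairPerm_pow, hgρ, finRotate_pow_self]
  have hvw : vw D u0 z0 g0 = pairPerm (swap 0 1 * τ ^ k) (extP hpk μ) := by
    rw [vw, hnw]
    show _ * g0 ^ k = _
    rw [hgk, pairPerm_mul, mul_one]
  have hcast0 : Fin.castLE hpk ⟨0, hp0⟩ = (⟨0, by omega⟩ : Fin k) := rfl
  have hyw : ∀ i (hi : i < k), yw D z0 g0 i = cyc (⟨i, hi⟩ : Fin k) := by
    intro i hi
    show g0 ^ i * z0 ^ ((ε ^ i : ℤˣ) : ℤ) * (g0 ^ i)⁻¹ = _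
    rw [← conj_zpow, hg0, pairPerm_pow, hz0, pairPerm_conj_cyc, map_pow, hsτ, ← zpow_mul, ← Units.val_mul,
      Int.units_mul_self, Units.val_one, zpow_one]
    exact congrArg cyc (Fin.ext (by rw [finRotate_pow_val]; simp [Nat.mod_eq_of_lt hi]))
  have hom_ : omw D z0 g0 = g0 ^ e * u0 := by
    show (Lω.map fun i : Fin k => yw D z0 g0 i).prod = _
    rw [← hLω]
    exact congrArg List.prod (List.map_congr_left fun i _ => hyw i i.isLt)
  have hz3 : z0 ^ 3 = 1 := cyc_pow_three _
  have hrels : ∀ w ∈ relList D u0 z0 g0, w = 1 := by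
    simp only [relList, List.mem_cons, List.mem_nil_iff, forall_eq_or_imp, or_false,
      forall_eq, mul_inv_eq_one]
    refine ⟨?_, ?_, ?_, ?_, ?_, ?_, ?_⟩
    · show u0 ^ p = vw D u0 z0 g0 ^ (p - 1)
      rw [hvw, hu0, ← map_pow, pairPerm_pow, pairPerm_pow, finRotate_pow_self, one_pow, pairPerm_one, map_one,
        tau_pow_even _ hpodd, ← map_pow, hμord, map_one, pairPerm_one]
    · show vw D u0 z0 g0 * u0 ^ s * (vw D u0 z0 g0)⁻¹ = u0 ^ (s + 1)
      rw [hvw, hu0, ← map_pow, ← map_pow, pairPerm_pow, pairPerm_pow, one_pow, one_pow, embP_pairPerm,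
        embP_pairPerm, pairPerm_inv, pairPerm_mul, pairPerm_mul, ← map_inv, ← map_mul, ← map_mul, mul_one,
        mul_inv_cancel]
      congr 2
      rw [mul_inv_eq_iff_eq_mul]
      ext i
      simp only [Perm.mul_apply]
      rw [hμv, finRotate_pow_val, finRotate_pow_val, hμv, Nat.mul_mod, Nat.mod_mod, ← Nat.mul_mod, mul_add,
        Nat.add_mod (r * i), hrs, ← Nat.add_mod, Nat.mod_add_mod]
    · rw [hz3, hxw 1 hp.one_lt, hz0e, ← map_mul, ← map_pow, cyc_mul_sq (by simp), map_one]
    · show vw D u0 z0 g0 * z0 * (vw D u0 z0 g0)⁻¹ = z0 ^ ((-(ε ^ k) : ℤˣ) : ℤ)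
      rw [hvw, hz0, pairPerm_conj_cyc, Perm.sign_mul, map_pow, hsτ, sign_swap (by decide), neg_one_mul,
        ← hcast0, extP_apply, hμ0]
    · show g0 * z0 * g0⁻¹ = u0 * z0 ^ ((ε : ℤ) * E) * u0⁻¹
      have hzE : z0 ^ ((ε : ℤ) * E) = z0 ^ (ε : ℤ) := by
        rw [mul_comm, zpow_mul, zpow_natCast, pow_eq_pow_mod _ hz3, hE3, pow_one]
      rw [hzE, ← conj_zpow, hg0, hu0, embP_pairPerm, hz0, pairPerm_conj_cyc, pairPerm_conj_cyc, map_one,
        Units.val_one, zpow_one, hsτ, ← hcast0, extP_apply]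
      congr 2
      apply Fin.ext
      rw [hgρ, finRotate_val, Fin.val_castLE, Fin.val_castLE, finRotate_val]
      simp [Nat.mod_eq_of_lt hp.one_lt, Nat.mod_eq_of_lt (show 1 < k by omega)]
    · rw [hpw, hg0, hu0, embP_pairPerm, pairPerm_inv, pairPerm_inv, pairPerm_mul, pairPerm_mul, pairPerm_mul,
        pairPerm_mul, tau_mul_conj, inv_one, one_mul, mul_one]
      refine congrArg (pairPerm _) (conj_eq_of_agree _ _ _ fun x hx => ?_)
      by_cases hxp : (x : ℕ) < p
      · obtain ⟨j, rfl⟩ : ∃ j : Fin p, Fin.castLE hpk j = x := ⟨⟨x, hxp⟩, rfl⟩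
        rw [extP_apply] at hx
        have hj : (j : ℕ) + 2 ≤ p := by
          by_contra hj
          refine hx (congrArg _ ?_)
          apply Fin.ext
          simp only [ρπ, Perm.mul_apply]
          rw [show finRotate p j = ⟨0, hp0⟩ from Fin.ext (by
            rw [finRotate_val, show (j : ℕ) + 1 = p by have := j.isLt; omega, Nat.mod_self]), swap_apply_right]
          show p - 1 = (j : ℕ)
          have := j.isLt; omega
        rw [extP_apply]
        apply Fin.ext
        rw [hgρ, finRotate_val, Fin.val_castLE, Fin.val_castLE, finRotate_val, Nat.mod_eq_of_lt (by omega),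
          Nat.mod_eq_of_lt (by omega)]
      · exact absurd (extP_apply_of_le hpk ρπ x (by omega)) hx
    · show g0 ^ e * u0 = omw D z0 g0
      exact hom_.symm
  -- the subgroup
  set T := Subgroup.closure ({u0, z0, g0} : Set (Perm (Fin 2 ⊕ Fin k))) with hT
  have hT2 : Subgroup.closure ({z0, g0} : Set (Perm (Fin 2 ⊕ Fin k))) = T := by
    refine le_antisymm (Subgroup.closure_mono (by intro x hx; exact Set.mem_insert_of_mem _ hx))
      ((Subgroup.closure_le _).mpr ?_)
    rintro x (rfl | rfl | rfl)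
    · rw [show u0 = (g0 ^ e)⁻¹ * omw D z0 g0 by rw [hom_, inv_mul_cancel_left]]
      refine mul_mem (inv_mem (pow_mem (Subgroup.subset_closure (by simp)) _)) (list_prod_mem fun q hq => ?_)
      obtain ⟨i, -, rfl⟩ := List.mem_map.mp hq
      exact mul_mem (mul_mem (pow_mem (Subgroup.subset_closure (by simp)) _)
        (zpow_mem (Subgroup.subset_closure (by simp)) _)) (inv_mem (pow_mem (Subgroup.subset_closure (by simp)) _))
    · exact Subgroup.subset_closure (by simp)
    · exact Subgroup.subset_closure (by simp)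
  have hAT : alternatingGroup (Fin 2 ⊕ Fin k) ≤ T := by
    rw [← closure_cyc, Subgroup.closure_le, ← hT2]
    rintro _ ⟨i, rfl⟩
    rw [show cyc i = yw D z0 g0 i from (hyw i i.isLt).symm]
    exact mul_mem (mul_mem (pow_mem (Subgroup.subset_closure (by simp)) _)
      (zpow_mem (Subgroup.subset_closure (by simp)) _)) (inv_mem (pow_mem (Subgroup.subset_closure (by simp)) _))
  have hg0T : g0 ∈ T := Subgroup.subset_closure (by simp)
  have hTA : σ = 1 → T = alternatingGroup (Fin 2 ⊕ Fin k) := fun h => by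
    refine le_antisymm (hT2 ▸ (Subgroup.closure_le _).mpr ?_) hAT
    rintro x (rfl | rfl)
    · exact cyc_mem_alternatingGroup _
    · exact Equiv.Perm.mem_alternatingGroup.mpr (hsg0.trans h)
  have hTS : σ = -1 → T = ⊤ := fun h => by
    rw [eq_top_iff]
    intro x _
    rcases Int.units_eq_one_or (sign x) with hx | hx
    · exact hAT (Equiv.Perm.mem_alternatingGroup.mpr hx)
    · have : x * g0 ∈ T := hAT (Equiv.Perm.mem_alternatingGroup.mpr (by rw [Perm.sign_mul, hx, hsg0, h]; rfl))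
      simpa using mul_mem this (inv_mem hg0T)
  refine ⟨T, hTA, hTS, ?_⟩
  let uT : T := ⟨u0, Subgroup.subset_closure (by simp)⟩
  let zT : T := ⟨z0, Subgroup.subset_closure (by simp)⟩
  let gT : T := ⟨g0, hg0T⟩
  let R : List (FreeGroup (Fin 3)) := relList D (FreeGroup.of 0) (FreeGroup.of 1) (FreeGroup.of 2)
  refine ⟨R.toFinset, (List.toFinset_card_le R).trans (by simp [R, relList]), ?_⟩
  let ev : Fin 3 → T := ![uT, zT, gT]
  have hev : ∀ w ∈ R.toFinset, FreeGroup.lift ev w = 1 := by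
    intro w hw
    rw [List.mem_toFinset] at hw
    have hm : FreeGroup.lift ev w ∈ relList D uT zT gT := by
      have := List.mem_map_of_mem (f := FreeGroup.lift ev) hw
      rwa [← relList_map, FreeGroup.lift_apply_of, FreeGroup.lift_apply_of, FreeGroup.lift_apply_of] at this
    apply Subtype.ext
    refine hrels _ ?_
    have := List.mem_map_of_mem (f := T.subtype) hm
    rwa [← relList_map] at this
  have hgen : Subgroup.closure (Set.range ev) = ⊤ := by
    apply Subgroup.map_injective (Subgroup.subtype_injective T)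
    rw [MonoidHom.map_closure, ← MonoidHom.range_eq_map, Subgroup.range_subtype, ← Set.range_comp]
    refine Eq.trans ?_ hT.symm
    congr 1
    ext x
    simp [Fin.exists_fin_succ, ev, uT, zT, gT, eq_comm]
  have hclP : Subgroup.closure ({PresentedGroup.of 0, PresentedGroup.of 1, PresentedGroup.of 2} :
      Set (PresentedGroup (↑R.toFinset : Set (FreeGroup (Fin 3))))) = ⊤ := by
    rw [eq_top_iff, ← PresentedGroup.closure_range_of]
    refine Subgroup.closure_mono ?_
    rintro _ ⟨i, rfl⟩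
    fin_cases i <;> simp
  obtain ⟨hfin, hle⟩ := card_le_of_rels D hD _ _ _ hclP (by
    intro w hw
    have hw' : w ∈ (relList D (FreeGroup.of 0) (FreeGroup.of 1) (FreeGroup.of 2)).map
        (PresentedGroup.mk (↑R.toFinset : Set (FreeGroup (Fin 3)))) := by rw [← relList_map]; exact hw
    obtain ⟨w', hw'', rfl⟩ := List.mem_map.mp hw'
    exact PresentedGroup.one_of_mem (Finset.mem_coe.mpr (List.mem_toFinset.mpr hw'')))
  have hcard : Nat.card (PresentedGroup (↑R.toFinset : Set (FreeGroup (Fin 3)))) ≤ Nat.card T := by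
    have hA : 2 * Nat.card ↥(alternatingGroup (Fin 2 ⊕ Fin k)) = (k + 2).factorial := by
      haveI : Nontrivial (Fin 2 ⊕ Fin k) := ⟨Sum.inl 0, Sum.inl 1, by simp⟩
      rw [two_mul_nat_card_alternatingGroup, Nat.card_eq_fintype_card, Fintype.card_perm, Fintype.card_sum,
        Fintype.card_fin, Fintype.card_fin, add_comm]
    change 2 * _ ≤ e * (k + 2).factorial at hle
    rcases Int.units_eq_one_or σ with h | h
    · rw [he, if_pos h, one_mul, ← hA] at hle
      rw [hTA h]; omega
    · rw [he, if_neg (by rw [h]; decide)] at hle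
      rw [hTS h, Subgroup.card_top, Nat.card_eq_fintype_card (α := Perm (Fin 2 ⊕ Fin k)), Fintype.card_perm,
        Fintype.card_sum, Fintype.card_fin, Fintype.card_fin, add_comm]
      omega
  obtain ⟨iso, hiso⟩ := exists_iso_of_card R.toFinset ev hev hgen hfin hcard
  refine ⟨iso, ?_⟩
  rw [hiso, hiso]
  apply Subgroup.map_injective (Subgroup.subtype_injective T)
  rw [MonoidHom.map_closure, ← MonoidHom.range_eq_map, Subgroup.range_subtype, Set.image_pair]
  exact hT2

end Cfsg.Agent.AltPresent
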